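/-
The automorphisms of a finite field.
-/
import Mathlib.FieldTheory.Galois.Basic
import Mathlib.FieldTheory.Finite.GaloisField
import Mathlib.Algebra.Algebra.ZMod
import Mathlib.GroupTheory.SpecificGroups.Cyclic
import Mathlib.Algebra.Ring.Aut

namespace CfsgLib.Chev

theorem ringAut_cyclic_card {F : Type*} [Field F] [Finite F] (p : ℕ) [Fact p.Prime] [CharP F p] {f : ℕ}
    (hF : Nat.card F = p ^ f) : IsCyclic (RingAut F) ∧ Nat.card (RingAut F) = f := by
  letI : Fintype F := Fintype.ofFinite F
  letI : Algebra (ZMod p) F := ZMod.algebra F p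
  have : Module.Finite (ZMod p) F := Module.Finite.of_finite
  let E : (F ≃ₐ[ZMod p] F) ≃* RingAut F :=
    { toFun := fun e => e.toRingEquiv
      invFun := fun e => AlgEquiv.ofRingEquiv (f := e) fun x =>
        RingHom.congr_fun (Subsingleton.elim ((e : F ≃+* F).toRingHom.comp (algebraMap (ZMod p) F))
          (algebraMap (ZMod p) F)) x
      left_inv := fun e => AlgEquiv.ext fun _ => rfl
      right_inv := fun e => RingEquiv.ext fun _ => rfl
      map_mul' := fun _ _ => rfl }
  refine ⟨(E.isCyclic).mp inferInstance, ?_⟩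
  rw [← Nat.card_congr E.toEquiv, IsGalois.card_aut_eq_finrank]
  have := Module.card_eq_pow_finrank (K := ZMod p) (V := F)
  rw [← Nat.card_eq_fintype_card, hF, ZMod.card] at this
  exact (Nat.pow_right_injective (Fact.out : p.Prime).two_le this).symm

theorem ringAut_cyclic_finite (F : Type*) [Field F] [Finite F] : IsCyclic (RingAut F) := by
  letI : Fintype F := Fintype.ofFinite F
  obtain ⟨p, hp⟩ := CharP.exists F
  obtain ⟨f, hprime, hf⟩ := FiniteField.card F p
  haveI : Fact p.Prime := ⟨hprime⟩
  exact (ringAut_cyclic_card p (by rw [Nat.card_eq_fintype_card, hf])).1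

end CfsgLib.Chev
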