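/-
Automorphisms of a finite Chevalley group can be moved to fix the opposite unipotent subgroups.
-/
import Cfsg.Agent.Lib.Chev.UnipCount
import Cfsg.Agent.Lib.Chev.Longest
import Cfsg.Agent.Lib.Chev.Bruhat

namespace CfsgLib.Chev

open Cfsg.Lie Matrix

set_option linter.dupNamespace false
set_option linter.unusedSectionVars false

variable {D : ChevalleyDatum}

namespace Chev

variable (Φ : Chev D) {F : Type*} [Field F]

theorem conj_US_iff {n : GL D.Idx F} {π : Equiv.Perm (Fin D.nroots)} (hn : n ∈ D.monomialSubgroup F)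
    (hm : Φ.Mono n π) {S T : Fin D.nroots → Prop} (h : ∀ r, S r ↔ T (π r)) (x : GL D.Idx F) :
    x ∈ Φ.US F S ↔ n * x * n⁻¹ ∈ Φ.US F T := by
  refine ⟨fun hx => Φ.mono_conj_US hm (fun r hr => (h r).1 hr) hx, fun hx => ?_⟩
  have := Φ.mono_conj_US (Φ.mono_inv hn hm) (T := S) (fun r hr => (h _).2 (by simpa using hr)) hx
  simpa [mul_assoc] using this

theorem pos_flip {π : Equiv.Perm (Fin D.nroots)} (hπ : π ∈ Φ.WL)
    (h : ∀ r, Φ.toTables.Pos r → ¬ Φ.toTables.Pos (π r)) (r : Fin D.nroots) :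
    Φ.toTables.Pos r ↔ ¬ Φ.toTables.Pos (π r) := by
  refine ⟨h r, fun hr => ?_⟩
  by_contra hn
  have := h r.rev ((Φ.pos_rev_iff r).2 hn)
  rw [Φ.map_rev hπ, Φ.pos_rev_iff] at this
  exact this hr

/-- A monomial element exchanging `U` and `V`. -/
theorem exists_swap : ∃ n ∈ D.monomialSubgroup F, ∃ π ∈ Φ.WL, Φ.Mono n π ∧
    (∀ r, Φ.toTables.Pos r ↔ ¬ Φ.toTables.Pos (π r)) ∧
    (∀ x, x ∈ D.posUnipotent F ↔ n * x * n⁻¹ ∈ D.negUnipotent F) ∧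
    (∀ x, x ∈ D.negUnipotent F ↔ n * x * n⁻¹ ∈ D.posUnipotent F) := by
  obtain ⟨π, hπ, hneg⟩ := Φ.exists_long
  obtain ⟨n, hn, hm⟩ := Φ.exists_preimage F hπ
  have hflip := Φ.pos_flip hπ hneg
  refine ⟨n, hn, π, hπ, hm, hflip, fun x => ?_, fun x => ?_⟩
  · rw [Φ.posUnipotent_eq_US, Φ.negUnipotent_eq_US]
    exact Φ.conj_US_iff hn hm hflip x
  · rw [Φ.posUnipotent_eq_US, Φ.negUnipotent_eq_US]
    exact Φ.conj_US_iff hn hm (fun r => by rw [hflip r, not_not]) x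

include Φ in
theorem B_conj_U {b x : GL D.Idx F} (hb : b ∈ D.borelSubgroup F) (hx : x ∈ D.posUnipotent F) :
    b * x * b⁻¹ ∈ D.posUnipotent F := by
  obtain ⟨u, hu, h, hh, rfl⟩ := Φ.mem_B_iff.mp hb
  have h1 := (Subgroup.mem_normalizer_iff.mp (Φ.H_le_normalizer_U hh) x).mp hx
  rw [show u * h * x * (u * h)⁻¹ = u * (h * x * h⁻¹) * u⁻¹ by group]
  exact mul_mem (mul_mem hu h1) (inv_mem hu)

include Φ in
theorem mem_B_of_normalizes_U {g : GL D.Idx F} (hg : g ∈ D.group F)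
    (h : ∀ x ∈ D.posUnipotent F, g * x * g⁻¹ ∈ D.posUnipotent F) : g ∈ D.borelSubgroup F := by
  obtain ⟨b, hb, n, hn, π, hπ, hm, u, hu, rfl⟩ := Φ.exists_normal_form hg
  have hu' := Φ.Uneg_le_U hu
  by_cases h1 : π = 1
  · subst h1
    exact mul_mem (mul_mem hb (H_le_B (Φ.mem_H_of_mono_one hn hm))) (U_le_B hu')
  exfalso
  obtain ⟨i, hi⟩ := Φ.exists_right_descent hπ h1
  obtain ⟨a, ha, ha', -⟩ := hm.1 (Φ.p i)
  have hx := h (u⁻¹ * Φ.toAlg.xg (Φ.p i) 1 * u) (mul_mem (mul_mem (inv_mem hu') (Φ.xg_mem_U (Φ.p_pos i) 1)) hu')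
  have hx' := Φ.B_conj_U (inv_mem hb) hx
  rw [inv_inv, show b⁻¹ * (b * n * u * (u⁻¹ * Φ.toAlg.xg (Φ.p i) 1 * u) * (b * n * u)⁻¹) * b =
    n * Φ.toAlg.xg (Φ.p i) 1 * n⁻¹ by group, ha', mul_one] at hx'
  have h2 : Φ.toAlg.xg (π (Φ.p i)) a ∈ D.borelSubgroup F ⊓ D.negUnipotent F := ⟨U_le_B hx', Φ.xg_mem_V hi a⟩
  rw [Φ.B_inf_V, Subgroup.mem_bot, Φ.toAlg.xg_eq_one_iff] at h2
  exact ha h2

include Φ in
theorem mem_H_of_normalizes {g : GL D.Idx F} (hg : g ∈ D.group F)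
    (hU : ∀ x ∈ D.posUnipotent F, g * x * g⁻¹ ∈ D.posUnipotent F)
    (hV : ∀ x ∈ D.negUnipotent F, g * x * g⁻¹ ∈ D.negUnipotent F) : g ∈ D.diagonalSubgroup F := by
  obtain ⟨n, hn, π, -, -, -, hUV, hVU⟩ := Φ.exists_swap (F := F)
  have hB : n⁻¹ * g * n ∈ D.borelSubgroup F := by
    refine Φ.mem_B_of_normalizes_U (mul_mem (mul_mem (inv_mem (Φ.N_le_group hn)) hg) (Φ.N_le_group hn)) fun x hx => ?_
    rw [hUV]
    have := hV _ ((hUV x).mp hx)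
    convert this using 1
    group
  obtain ⟨u, hu, h, hh, e⟩ := Φ.mem_B_iff.mp hB
  rw [← Φ.B_inf_VH]
  refine ⟨Φ.mem_B_of_normalizes_U hg hU, ?_⟩
  rw [show g = (n * u * n⁻¹) * (n * h * n⁻¹) by
    rw [show g = n * (n⁻¹ * g * n) * n⁻¹ by group, e]; group]
  exact mul_mem (Subgroup.mem_sup_left ((hUV u).mp hu))
    (Subgroup.mem_sup_right (Φ.H_conj_mem hn hh))

include Φ in
/-- A conjugate of `U` meeting `U` trivially is a `U`-conjugate of `V`. -/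
theorem opposite {g : GL D.Idx F} (hg : g ∈ D.group F)
    (h : ∀ x ∈ D.posUnipotent F, g⁻¹ * x * g ∈ D.posUnipotent F → x = 1) :
    ∃ u ∈ D.posUnipotent F, ∀ x, g⁻¹ * x * g ∈ D.posUnipotent F ↔ u⁻¹ * x * u ∈ D.negUnipotent F := by
  obtain ⟨b, hb, n, hn, π, hπ, hm, w, hw, rfl⟩ := Φ.exists_normal_form hg
  have hw' := Φ.Uneg_le_U hw
  have hall : ∀ r, Φ.toTables.Pos r → ¬ Φ.toTables.Pos (π r) := fun r hr hp => by
    obtain ⟨a, ha, ha', -⟩ := (Φ.mono_inv hn hm).1 (π r)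
    have ha1 := ha' 1
    rw [inv_inv, mul_one, show π⁻¹ (π r) = r by simp] at ha1
    have := h (b * Φ.toAlg.xg (π r) 1 * b⁻¹) (Φ.B_conj_U hb (Φ.xg_mem_U hp 1)) (by
      rw [show (b * n * w)⁻¹ * (b * Φ.toAlg.xg (π r) 1 * b⁻¹) * (b * n * w) =
        w⁻¹ * (n⁻¹ * Φ.toAlg.xg (π r) 1 * n) * w by group, ha1]
      exact mul_mem (mul_mem (inv_mem hw') (Φ.xg_mem_U hr a)) hw')
    rw [show (1 : GL D.Idx F) = b * 1 * b⁻¹ by group, mul_left_inj, mul_right_inj,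
      Φ.toAlg.xg_eq_one_iff] at this
    exact one_ne_zero this
  obtain ⟨u0, hu0, h0, hh0, rfl⟩ := Φ.mem_B_iff.mp hb
  refine ⟨u0, hu0, fun x => ?_⟩
  have hconj : ∀ y, y ∈ D.posUnipotent F ↔ n * y * n⁻¹ ∈ D.negUnipotent F := fun y => by
    rw [Φ.posUnipotent_eq_US, Φ.negUnipotent_eq_US]
    exact Φ.conj_US_iff hn hm (Φ.pos_flip hπ hall) y
  have hH : ∀ y, h0⁻¹ * y * h0 ∈ D.negUnipotent F ↔ y ∈ D.negUnipotent F := fun y => by
    rw [Φ.negUnipotent_eq_US, Subgroup.mem_normalizer_iff.mp (Φ.H_le_normalizer_US _ (inv_mem hh0)) y, inv_inv]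
  rw [← hH (u0⁻¹ * x * u0)]
  constructor
  · intro hx
    have := (hconj _).mp (mul_mem (mul_mem hw' hx) (inv_mem hw'))
    convert this using 1
    group
  · intro hx
    have h1 : n⁻¹ * (h0⁻¹ * (u0⁻¹ * x * u0) * h0) * n ∈ D.posUnipotent F := (hconj _).mpr (by
      convert hx using 1; group)
    rw [show (u0 * h0 * n * w)⁻¹ * x * (u0 * h0 * n * w) =
      w⁻¹ * (n⁻¹ * (h0⁻¹ * (u0⁻¹ * x * u0) * h0) * n) * w by group]
    exact mul_mem (mul_mem (inv_mem hw') h1) hw'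

include Φ in
/-- Every automorphism fixes `U` and `V` after an inner automorphism. -/
theorem exists_fix [Finite F] (p : ℕ) [Fact p.Prime] [CharP F p] (θ : ↥(D.group F) ≃* ↥(D.group F)) :
    ∃ x : ↥(D.group F), ∀ g : ↥(D.group F),
      ((g : GL D.Idx F) ∈ D.posUnipotent F ↔ (x * θ g * x⁻¹ : ↥(D.group F)).1 ∈ D.posUnipotent F) ∧
      ((g : GL D.Idx F) ∈ D.negUnipotent F ↔ (x * θ g * x⁻¹ : ↥(D.group F)).1 ∈ D.negUnipotent F) := by
  classical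
  set U : Subgroup ↥(D.group F) := (D.posUnipotent F).subgroupOf (D.group F) with hUdef
  have hUG : D.posUnipotent F ≤ D.group F := fun v hv => Φ.B_le_group (U_le_B hv)
  have hcardU : Nat.card U = Nat.card F ^ (D.nroots / 2) := by
    rw [Nat.card_congr (Subgroup.subgroupOfEquivOfLe hUG).toEquiv, Φ.card_U]
  obtain ⟨m, k, hm, hk, hc⟩ := Φ.card_group_split (F := F) p
  have hidx : ¬ p ∣ U.index := by
    have h2 := U.card_mul_index
    rw [hcardU, hc] at h2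
    rw [Nat.eq_of_mul_eq_mul_left (pow_pos Nat.card_pos _) h2]
    exact hm
  have hp : IsPGroup p U := IsPGroup.of_card (n := k * (D.nroots / 2)) (by rw [hcardU, hk, pow_mul])
  let P : Sylow p ↥(D.group F) := hp.toSylow hidx
  obtain ⟨x₁, hx₁⟩ := MulAction.exists_smul_eq ↥(D.group F) (P.mapSurjective (f := θ.toMonoidHom) θ.surjective) P
  have h1 : ∀ g : ↥(D.group F),
      (g : GL D.Idx F) ∈ D.posUnipotent F ↔ (x₁ * θ g * x₁⁻¹ : ↥(D.group F)).1 ∈ D.posUnipotent F := by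
    intro g
    show g ∈ U ↔ (x₁ * θ g * x₁⁻¹) ∈ (P : Subgroup ↥(D.group F))
    rw [← hx₁, Sylow.smul_def, Sylow.pointwise_smul_def]
    rw [show x₁ * θ g * x₁⁻¹ = MulAut.conj x₁ • θ g from rfl, Subgroup.smul_mem_pointwise_smul_iff]
    show g ∈ U ↔ θ g ∈ U.map θ.toMonoidHom
    exact ((Subgroup.mem_map_equiv (f := θ) (K := U) (x := θ g)).trans (by rw [MulEquiv.symm_apply_apply])).symm
  obtain ⟨n, hn, π, -, -, -, hUV, hVU⟩ := Φ.exists_swap (F := F)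
  let n' : ↥(D.group F) := ⟨n, Φ.N_le_group hn⟩
  set G0 : ↥(D.group F) := x₁ * θ n' * x₁⁻¹ with hG0
  have key : ∀ g : ↥(D.group F), (g : GL D.Idx F) ∈ D.negUnipotent F ↔
      (G0⁻¹ * (x₁ * θ g * x₁⁻¹) * G0 : ↥(D.group F)).1 ∈ D.posUnipotent F := by
    intro g
    have h2 := h1 (n'⁻¹ * g * n')
    rw [show x₁ * θ (n'⁻¹ * g * n') * x₁⁻¹ = G0⁻¹ * (x₁ * θ g * x₁⁻¹) * G0 by
      simp only [map_mul, map_inv, hG0]; group] at h2
    rw [← h2]
    show _ ↔ n⁻¹ * (g : GL D.Idx F) * n ∈ D.posUnipotent F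
    rw [hUV, show n * (n⁻¹ * (g : GL D.Idx F) * n) * n⁻¹ = g by group]
  obtain ⟨u, hu, hopp⟩ := Φ.opposite G0.2 (fun x hx hx' => by
    obtain ⟨y, hy⟩ := (MulEquiv.surjective θ) (x₁⁻¹ * ⟨x, hUG hx⟩ * x₁)
    have e : x₁ * θ y * x₁⁻¹ = ⟨x, hUG hx⟩ := by rw [hy]; group
    have hyU : (y : GL D.Idx F) ∈ D.posUnipotent F := (h1 y).mpr (by rw [e]; exact hx)
    have hyV : (y : GL D.Idx F) ∈ D.negUnipotent F := (key y).mpr (by rw [e]; exact hx')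
    have : (y : GL D.Idx F) ∈ D.borelSubgroup F ⊓ D.negUnipotent F := ⟨U_le_B hyU, hyV⟩
    rw [Φ.B_inf_V, Subgroup.mem_bot] at this
    have hy1 : y = 1 := Subtype.ext this
    rw [hy1, map_one, mul_one, mul_inv_cancel] at e
    exact (congrArg Subtype.val e).symm)
  refine ⟨⟨u, hUG hu⟩⁻¹ * x₁, fun g => ⟨?_, ?_⟩⟩
  · rw [h1 g]
    show _ ↔ u⁻¹ * (x₁ : GL D.Idx F) * (θ g : GL D.Idx F) * (u⁻¹ * (x₁ : GL D.Idx F))⁻¹ ∈ _
    constructor
    · intro hx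
      have := Φ.B_conj_U (inv_mem (U_le_B hu)) hx
      convert this using 1
      simp only [Subgroup.coe_mul, Subgroup.coe_inv]; group
    · intro hx
      have := Φ.B_conj_U (U_le_B hu) hx
      convert this using 1
      simp only [Subgroup.coe_mul, Subgroup.coe_inv]; group
  · rw [key g]
    refine (hopp _).trans (Iff.of_eq (congrArg (· ∈ D.negUnipotent F) ?_))
    simp only [Subgroup.coe_mul, Subgroup.coe_inv]; group

end Chev

end CfsgLib.Chev
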