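/-
An automorphism fixing `U` and `V` permutes the fundamental root subgroups.
-/
import Cfsg.Agent.Lib.Chev.Aut.Sylow
import Cfsg.Agent.Lib.Chev.SL2Hom

namespace CfsgLib.Chev

open Cfsg.Lie Matrix

set_option linter.dupNamespace false
set_option linter.unusedSectionVars false

variable {D : ChevalleyDatum}

namespace Chev

variable (Φ : Chev D) {F : Type*} [Field F]

/-- A root element as an element of the group. -/
def eg (r : Fin D.nroots) (t : F) : ↥(D.group F) := ⟨Φ.toAlg.xg r t, Φ.toAlg.xg_mem_group r t⟩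

@[simp]
theorem eg_val (r : Fin D.nroots) (t : F) : (Φ.eg r t : GL D.Idx F) = Φ.toAlg.xg r t := rfl

theorem eg_inj {r : Fin D.nroots} {a b : F} (h : Φ.eg r a = Φ.eg r b) : a = b :=
  Φ.toAlg.xg_injective r (congrArg Subtype.val h)

theorem eg_root {r s : Fin D.nroots} {a b : F} (ha : a ≠ 0) (h : Φ.eg r a = Φ.eg s b) : r = s :=
  Φ.root_eq_of_xg_eq ha (congrArg Subtype.val h)

theorem eg_eq_one_iff {r : Fin D.nroots} {t : F} : Φ.eg r t = 1 ↔ t = 0 := by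
  rw [← Φ.toAlg.xg_eq_one_iff (r := r) (t := t)]
  exact ⟨fun h => congrArg Subtype.val h, fun h => Subtype.ext h⟩

theorem eg_add (r : Fin D.nroots) (a b : F) : Φ.eg r (a + b) = Φ.eg r a * Φ.eg r b :=
  Subtype.ext (Φ.toAlg.xg_add r a b)

/-- `θ` fixes `U` and `V`. -/
structure Fix (θ : ↥(D.group F) ≃* ↥(D.group F)) : Prop where
  u : ∀ g : ↥(D.group F), (g : GL D.Idx F) ∈ D.posUnipotent F ↔ (θ g : GL D.Idx F) ∈ D.posUnipotent F
  v : ∀ g : ↥(D.group F), (g : GL D.Idx F) ∈ D.negUnipotent F ↔ (θ g : GL D.Idx F) ∈ D.negUnipotent F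

variable {θ : ↥(D.group F) ≃* ↥(D.group F)}

theorem Fix.symm (hθ : Fix θ) : Fix θ.symm :=
  ⟨fun g => by rw [hθ.u (θ.symm g), MulEquiv.apply_symm_apply],
    fun g => by rw [hθ.v (θ.symm g), MulEquiv.apply_symm_apply]⟩

include Φ in
theorem Fix.mem_B_imp (hθ : Fix θ) {g : ↥(D.group F)} (hg : (g : GL D.Idx F) ∈ D.borelSubgroup F) :
    (θ g : GL D.Idx F) ∈ D.borelSubgroup F := by
  refine Φ.mem_B_of_normalizes_U (θ g).2 fun x hx => ?_
  obtain ⟨y, hy⟩ := θ.surjective ⟨x, Φ.B_le_group (U_le_B hx)⟩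
  have hyU : (y : GL D.Idx F) ∈ D.posUnipotent F := (hθ.u y).mpr (by rw [hy]; exact hx)
  have := (hθ.u (g * y * g⁻¹)).mp (Φ.B_conj_U hg hyU)
  rwa [map_mul, map_mul, map_inv, hy] at this

/-- The parabolic subgroup of one fundamental root. -/
noncomputable def simpP (F : Type*) [Field F] (j : Fin D.rank) : Subgroup ↥(D.group F) :=
  (Φ.bnPair F).parabolic (Φ.simpleSet F {j})

theorem root_conj_H {h : GL D.Idx F} (hh : h ∈ D.diagonalSubgroup F) (r : Fin D.nroots) (t : F) :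
    ∃ t', h * Φ.toAlg.xg r t * h⁻¹ = Φ.toAlg.xg r t' := by
  obtain ⟨c, rfl⟩ := Φ.exists_torus_of_mem_H hh
  exact ⟨(Φ.toSys.chi c r : F) * t, by rw [Φ.toAlg.torus_xg, mul_inv_cancel_right]⟩

theorem eq_neg_root_of_mem_V {g b : GL D.Idx F} (i : Fin D.rank) (s : F) (hb : b ∈ D.borelSubgroup F)
    (he : g = b * Φ.toAlg.xg (Φ.p i).rev s * Φ.nw (Φ.p i) 1) (hg : g ∈ D.negUnipotent F) :
    ∃ c, g = Φ.toAlg.xg (Φ.p i).rev c := by
  set x := Φ.toAlg.xg (F := F) (Φ.p i) with hxdef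
  set y := Φ.toAlg.xg (F := F) (Φ.p i).rev with hydef
  set n := Φ.nw (Φ.p i) (1 : Fˣ) with hndef
  rcases eq_or_ne s 0 with rfl | hs
  · exfalso
    rw [hydef, Φ.toAlg.xg_zero, mul_one] at he
    obtain ⟨n0, hn0, π, -, -, -, hUV, -⟩ := Φ.exists_swap (F := F)
    have hu : n0⁻¹ * g * n0 ∈ D.posUnipotent F := by
      rw [hUV, show n0 * (n0⁻¹ * g * n0) * n0⁻¹ = g by group]; exact hg
    have h1 := Φ.bnb_unique hb (one_mem _) (one_mem _) (U_le_B hu)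
      (mul_mem (Φ.nw_mem_N (Φ.p i) 1) hn0) hn0
      (show b * (n * n0) * 1 = 1 * n0 * (n0⁻¹ * g * n0) by rw [he]; group)
    have h2 := Φ.H_conj_mem hn0 h1
    rw [show n0 * ((n * n0)⁻¹ * n0) * n0⁻¹ = n⁻¹ by group] at h2
    obtain ⟨c, hc⟩ := Φ.exists_torus_of_mem_H (inv_mem h2)
    rw [inv_inv] at hc
    have hπ := Mono.unique Φ (hndef ▸ Φ.nw_one_mono (F := F) i) (hc ▸ Φ.mono_torus c)
    have hp : Φ.refl i (Φ.p i) = Φ.p i := DFunLike.congr_fun hπ (Φ.p i)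
    rw [Φ.refl_p] at hp
    exact Φ.toSys.rev_ne _ hp
  · set v : Fˣ := Units.mk0 (-(s⁻¹)) (by simp [hs]) with hv
    have e1 : y s = x s⁻¹ * Φ.nw (Φ.p i) v * x s⁻¹ := by
      simp only [nw, hv, Units.val_mk0, hxdef, hydef, inv_neg, inv_inv, neg_neg]
      rw [Φ.toAlg.xg_neg]
      group
    have e2 : n * x s⁻¹ = y (-s⁻¹) * n := Φ.nw_xg_self _ _
    have hd : Φ.hw (Φ.p i) (-1 : Fˣ) ∈ D.diagonalSubgroup F := Φ.hw_mem_H _ _
    obtain ⟨c, hc⟩ := Φ.root_conj_H (inv_mem hd) (Φ.p i).rev (-s⁻¹)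
    rw [inv_inv] at hc
    have e3 : y s * n = x s⁻¹ * Φ.hw (Φ.p i) v * Φ.hw (Φ.p i) (-1) * y c := by
      rw [hydef, ← hc, ← hydef, e1, Φ.nw_eq_hw_mul, ← hndef]
      calc x s⁻¹ * (Φ.hw (Φ.p i) v * n) * x s⁻¹ * n = x s⁻¹ * Φ.hw (Φ.p i) v * (n * x s⁻¹) * n := by group
        _ = x s⁻¹ * Φ.hw (Φ.p i) v * (y (-s⁻¹) * n) * n := by rw [e2]
        _ = x s⁻¹ * Φ.hw (Φ.p i) v * y (-s⁻¹) * (n * n) := by group
        _ = x s⁻¹ * Φ.hw (Φ.p i) v * y (-s⁻¹) * Φ.hw (Φ.p i) (-1) := by rw [hndef, Φ.nw_sq]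
        _ = _ := by group
    have hB : b * (x s⁻¹ * Φ.hw (Φ.p i) v * Φ.hw (Φ.p i) (-1)) ∈ D.borelSubgroup F :=
      mul_mem hb (mul_mem (mul_mem (U_le_B (Φ.xg_mem_U (Φ.p_pos i) _)) (H_le_B (Φ.hw_mem_H _ _))) (H_le_B hd))
    have e4 : g * (y c)⁻¹ = b * (x s⁻¹ * Φ.hw (Φ.p i) v * Φ.hw (Φ.p i) (-1)) := by
      rw [he, mul_assoc b (Φ.toAlg.xg _ s), ← hydef, e3]; group
    have h2 : g * (y c)⁻¹ ∈ D.borelSubgroup F ⊓ D.negUnipotent F :=
      Subgroup.mem_inf.2 ⟨e4 ▸ hB, mul_mem hg (inv_mem (Φ.xg_mem_V (fun h => (Φ.pos_rev_iff _).mp h (Φ.p_pos i)) c))⟩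
    rw [Φ.B_inf_V, Subgroup.mem_bot, mul_inv_eq_one] at h2
    exact ⟨c, h2⟩

theorem mem_V_simpP {j : Fin D.rank} {g : ↥(D.group F)} (hg : g ∈ Φ.simpP F j)
    (hV : (g : GL D.Idx F) ∈ D.negUnipotent F) : ∃ t, g = Φ.eg (Φ.p j).rev t := by
  obtain ⟨q, hq, hcell⟩ := (CfsgLib.BN.mem_parabolic_iff (Φ.bnPair F) (Φ.simpleSet_subset {j})).1 hg
  let s : (Φ.bnPair F).S := ⟨⟨Φ.nw (Φ.p j) 1, Φ.nw_mem_group _ _⟩, ⟨j, rfl⟩⟩
  have hq' : q = 1 ∨ q = CfsgLib.BN.σ (Φ.bnPair F) s := by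
    obtain ⟨l, hl, rfl⟩ := hq
    clear hcell hg
    induction l with
    | nil => exact Or.inl rfl
    | cons a l ih =>
      obtain ⟨k, hk, ha⟩ := hl a (List.mem_cons_self ..)
      obtain rfl : k = j := hk
      have : a = s := Subtype.ext ha.symm
      subst this
      rcases ih (fun x hx => hl x (List.mem_cons_of_mem _ hx)) with h | h <;>
        simp only [CfsgLib.BN.wd, List.map_cons, List.prod_cons] at h ⊢ <;> rw [h]
      · right; rw [mul_one]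
      · left; exact CfsgLib.BN.σ_mul_self _ _
  rcases hq' with rfl | rfl
  · rw [CfsgLib.BN.cell_one] at hcell
    have h2 : (g : GL D.Idx F) ∈ D.borelSubgroup F ⊓ D.negUnipotent F := ⟨hcell, hV⟩
    rw [Φ.B_inf_V, Subgroup.mem_bot] at h2
    exact ⟨0, Subtype.ext (by rw [h2, eg_val, Φ.toAlg.xg_zero])⟩
  · obtain ⟨a, ha, b, hb, rfl⟩ := (CfsgLib.BN.mem_cell_cls (Φ.bnPair F)).1 hcell
    obtain ⟨u, hu, h, hh, hbe⟩ := Φ.mem_B_iff.mp (show (b : GL D.Idx F) ∈ D.borelSubgroup F from hb)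
    obtain ⟨v, hv, t, rfl⟩ := Φ.exists_split j hu
    have hval : ((a * (s : ↥(D.group F)) * b : ↥(D.group F)) : GL D.Idx F) =
        (a : GL D.Idx F) * Φ.nw (Φ.p j) 1 * (v * Φ.toAlg.xg (Φ.p j) t * h) := by
      rw [← hbe]; rfl
    set n := Φ.nw (Φ.p j) (1 : Fˣ)
    have hnv : n * v * n⁻¹ ∈ D.borelSubgroup F := U_le_B (Φ.posNe_le_U (Φ.nw_conj_posNe j hv))
    have hB : h * (a : GL D.Idx F) * (n * v * n⁻¹) ∈ D.borelSubgroup F := mul_mem (mul_mem (H_le_B hh) ha) hnv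
    have hV' : h * ((a * (s : ↥(D.group F)) * b : ↥(D.group F)) : GL D.Idx F) * h⁻¹ ∈ D.negUnipotent F := by
      rw [Φ.negUnipotent_eq_US] at hV ⊢
      exact (Subgroup.mem_normalizer_iff.mp (Φ.H_le_normalizer_US _ hh) _).mp hV
    obtain ⟨c, hc⟩ := Φ.eq_neg_root_of_mem_V (g := h * ((a * (s : ↥(D.group F)) * b : ↥(D.group F)) : GL D.Idx F) * h⁻¹)
      j (-t) hB (by
        rw [hval, mul_assoc (h * (a : GL D.Idx F) * (n * v * n⁻¹)), ← Φ.nw_xg_self]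
        simp only [n]
        group) hV'
    obtain ⟨c', hc'⟩ := Φ.root_conj_H (inv_mem hh) (Φ.p j).rev c
    refine ⟨c', Subtype.ext ?_⟩
    rw [eg_val, ← hc', ← hc]
    group

theorem eg_rev_mem_simpP (j : Fin D.rank) (t : F) : Φ.eg (Φ.p j).rev t ∈ Φ.simpP F j := by
  have hn : (⟨Φ.nw (Φ.p j) 1, Φ.nw_mem_group _ _⟩ : ↥(D.group F)) ∈ Φ.simpP F j :=
    Subgroup.mem_sup_right (Subgroup.subset_closure ⟨j, rfl, rfl⟩)
  have hx : Φ.eg (Φ.p j) (-t) ∈ Φ.simpP F j := Subgroup.mem_sup_left (U_le_B (Φ.xg_mem_U (Φ.p_pos j) _))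
  have := mul_mem (mul_mem hn hx) (inv_mem hn)
  convert this using 1
  refine Subtype.ext ?_
  simp only [Subgroup.coe_mul, Subgroup.coe_inv, eg_val]
  rw [Φ.nw_xg_self, neg_neg, mul_inv_cancel_right]

theorem Fix.exists_simpP (hθ : Fix θ) (j : Fin D.rank) :
    ∃ k, ∀ g, g ∈ Φ.simpP F j → θ g ∈ Φ.simpP F k := by
  set P := Φ.bnPair F with hP
  have key : ∀ {φ : ↥(D.group F) ≃* ↥(D.group F)}, Fix φ → ∀ i : Fin D.rank,
      ∃ k, Φ.simpP F k ≤ (Φ.simpP F i).map φ.toMonoidHom := by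
    intro φ hφ i
    have hB : P.B ≤ (Φ.simpP F i).map φ.toMonoidHom := fun g hg =>
      ⟨φ.symm g, Subgroup.mem_sup_left (Fix.mem_B_imp Φ hφ.symm hg), φ.apply_symm_apply g⟩
    have hM := CfsgLib.BN.eq_parabolic P hB
    by_cases hne : ∃ s ∈ P.S, s ∈ (Φ.simpP F i).map φ.toMonoidHom
    · obtain ⟨s, ⟨k, rfl⟩, hs⟩ := hne
      refine ⟨k, sup_le hB ((Subgroup.closure_le _).2 ?_)⟩
      rintro _ ⟨k', hk', rfl⟩
      obtain rfl : k' = k := hk'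
      exact hs
    · exfalso
      push Not at hne
      have hnS : (⟨Φ.nw (Φ.p i) 1, Φ.nw_mem_group _ _⟩ : ↥(D.group F)) ∈ P.S := ⟨i, rfl⟩
      apply CfsgLib.BN.notMem_B P hnS
      have hmem : φ ⟨Φ.nw (Φ.p i) 1, Φ.nw_mem_group _ _⟩ ∈ (Φ.simpP F i).map φ.toMonoidHom :=
        ⟨_, Subgroup.mem_sup_right (Subgroup.subset_closure ⟨i, rfl, rfl⟩), rfl⟩
      rw [hM, show P.S ∩ ((Φ.simpP F i).map φ.toMonoidHom : Set ↥(D.group F)) = ∅ from
        Set.eq_empty_iff_forall_notMem.2 fun s hs => hne s hs.1 hs.2,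
        Cfsg.BNPair.parabolic, Subgroup.closure_empty, sup_bot_eq] at hmem
      have := Fix.mem_B_imp Φ hφ.symm hmem
      rwa [MulEquiv.symm_apply_apply] at this
  obtain ⟨k, hk⟩ := key hθ j
  obtain ⟨l, hl⟩ := key hθ.symm k
  have hle : Φ.simpP F l ≤ Φ.simpP F j := fun g hg => by
    obtain ⟨g', hg', rfl⟩ := hl hg
    obtain ⟨g'', hg'', rfl⟩ := hk hg'
    simpa using hg''
  have hlj : l = j := by
    obtain ⟨j', hj', e⟩ := (CfsgLib.BN.mem_parabolic_iff_mem P (Φ.simpleSet_subset {j})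
      (s := ⟨Φ.nw (Φ.p l) 1, Φ.nw_mem_group _ _⟩) ⟨l, rfl⟩).1
      (hle (Subgroup.mem_sup_right (Subgroup.subset_closure ⟨l, rfl, rfl⟩)))
    obtain rfl : j' = j := hj'
    refine (Φ.nw_one_injective (F := F) ?_).symm
    rw [show Φ.nw (Φ.p j') (1 : Fˣ) = Φ.nw (Φ.p l) 1 from congrArg Subtype.val e, inv_mul_cancel]
    exact one_mem _
  subst hlj
  refine ⟨k, fun g hg => ?_⟩
  obtain ⟨g', hg', rfl⟩ := hl hg
  simpa using hg'

theorem Fix.exists_neg (hθ : Fix θ) (j : Fin D.rank) :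
    ∃ k, ∀ t, ∃ t', θ (Φ.eg (Φ.p j).rev t) = Φ.eg (Φ.p k).rev t' := by
  obtain ⟨k, hk⟩ := Fix.exists_simpP Φ hθ j
  refine ⟨k, fun t => Φ.mem_V_simpP (hk _ (Φ.eg_rev_mem_simpP j t)) ?_⟩
  exact (hθ.v _).mp (Φ.xg_mem_V (fun h => (Φ.pos_rev_iff _).mp h (Φ.p_pos j)) t)

theorem long_simple {π : Equiv.Perm (Fin D.nroots)} (hπ : π ∈ Φ.WL)
    (hflip : ∀ r, Φ.toTables.Pos r ↔ ¬ Φ.toTables.Pos (π r)) :
    ∃ a : Equiv.Perm (Fin D.rank), ∀ i, π (Φ.p (a i)).rev = Φ.p i := by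
  have hex : ∀ i, ∃ k, π (Φ.p k).rev = Φ.p i := by
    intro i
    set r := π⁻¹ (Φ.p i) with hr
    have hπr : π r = Φ.p i := by simp [hr]
    set q := r.rev with hq
    have hqpos : Φ.toTables.Pos q := by
      rw [hq, Φ.pos_rev_iff, hflip r, not_not, hπr]; exact Φ.p_pos i
    have hq0 := fun k => Φ.V_nonneg q hqpos k
    have ht : ∀ k, 1 ≤ ∑ j, - Φ.V (π (Φ.p k)) j := by
      intro k
      have hn := (hflip _).1 (Φ.p_pos k)
      obtain ⟨j, hj⟩ := Φ.exists_V_pos (r := (π (Φ.p k)).rev) ((Φ.pos_rev_iff _).2 hn)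
      rw [Φ.V_neg] at hj
      refine le_trans (show (1 : ℤ) ≤ - Φ.V (π (Φ.p k)) j by omega)
        (Finset.single_le_sum (f := fun j => - Φ.V (π (Φ.p k)) j) (fun m _ => ?_) (Finset.mem_univ j))
      show 0 ≤ - Φ.V (π (Φ.p k)) m
      linarith [Φ.V_nonpos _ hn m]
    have hsum : (1 : ℤ) = ∑ k, Φ.V q k * ∑ j, - Φ.V (π (Φ.p k)) j := by
      have h1 : (1 : ℤ) = ∑ j, Φ.V (π r) j := by
        rw [hπr]; simp [Φ.V_p]
      rw [h1]
      simp only [Φ.V_map hπ r, Finset.mul_sum]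
      rw [Finset.sum_comm]
      refine Finset.sum_congr rfl fun k _ => Finset.sum_congr rfl fun j _ => ?_
      rw [hq, Φ.V_neg]; ring
    have hle : ∑ k, Φ.V q k ≤ 1 := by
      rw [hsum]
      exact Finset.sum_le_sum fun k _ => le_mul_of_one_le_right (hq0 k) (ht k)
    obtain ⟨k, hk⟩ := Φ.exists_V_pos hqpos
    refine ⟨k, ?_⟩
    have hqk : q = Φ.p k := Φ.toSys.V_inj fun m => by
      rw [Φ.V_p]
      have h1 := Finset.single_le_sum (fun x _ => hq0 x) (Finset.mem_univ k)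
      split_ifs with h
      · subst h; omega
      · have h2 := Finset.add_le_sum (fun x _ => hq0 x) (Finset.mem_univ k) (Finset.mem_univ m) h
        have := hq0 m
        omega
    rw [← hqk, hq, Fin.rev_rev, hπr]
  choose a ha using hex
  have hinj : Function.Injective a := fun i i' e => by
    have := (ha i).symm.trans ((congrArg (fun k => π (Φ.p k).rev) e).trans (ha i'))
    by_contra hne
    have h1 := Φ.V_p i i
    rw [this, Φ.V_p, if_pos rfl, if_neg (Ne.symm hne)] at h1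
    exact one_ne_zero h1.symm
  exact ⟨Equiv.ofBijective a (Finite.injective_iff_bijective.1 hinj), ha⟩

theorem Fix.exists_pos (hθ : Fix θ) (i : Fin D.rank) :
    ∃ k, ∀ t, ∃ t', θ (Φ.eg (Φ.p i) t) = Φ.eg (Φ.p k) t' := by
  obtain ⟨n, hn, π, hπ, hm, hflip, hUV, hVU⟩ := Φ.exists_swap (F := F)
  obtain ⟨a, ha⟩ := Φ.long_simple hπ hflip
  let n' : ↥(D.group F) := ⟨n, Φ.N_le_group hn⟩
  let φ : ↥(D.group F) ≃* ↥(D.group F) := ((MulAut.conj n').trans θ).trans (MulAut.conj n'⁻¹)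
  have hφapp : ∀ g, φ g = n'⁻¹ * θ (n' * g * n'⁻¹) * n' := fun g => by simp [φ]
  have hφ : Fix φ := by
    constructor
    · intro g
      rw [hUV, show n * (g : GL D.Idx F) * n⁻¹ = ((n' * g * n'⁻¹ : ↥(D.group F)) : GL D.Idx F) from rfl, hθ.v,
        hUV (φ g), hφapp, show n * ((n'⁻¹ * θ (n' * g * n'⁻¹) * n' : ↥(D.group F)) : GL D.Idx F) * n⁻¹ =
          (θ (n' * g * n'⁻¹) : GL D.Idx F) by simp only [Subgroup.coe_mul, Subgroup.coe_inv, n']; group]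
    · intro g
      rw [hVU, show n * (g : GL D.Idx F) * n⁻¹ = ((n' * g * n'⁻¹ : ↥(D.group F)) : GL D.Idx F) from rfl, hθ.u,
        hVU (φ g), hφapp, show n * ((n'⁻¹ * θ (n' * g * n'⁻¹) * n' : ↥(D.group F)) : GL D.Idx F) * n⁻¹ =
          (θ (n' * g * n'⁻¹) : GL D.Idx F) by simp only [Subgroup.coe_mul, Subgroup.coe_inv, n']; group]
  obtain ⟨k, hk⟩ := Fix.exists_neg Φ hφ (a i)
  obtain ⟨α, hα0, hα, -⟩ := hm.1 (Φ.p (a i)).rev
  obtain ⟨β, hβ0, hβ, -⟩ := hm.1 (Φ.p k).rev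
  refine ⟨a.symm k, fun t => ?_⟩
  obtain ⟨t', ht'⟩ := hk (α⁻¹ * t)
  refine ⟨β * t', ?_⟩
  rw [hφapp] at ht'
  have e1 : n' * Φ.eg (Φ.p (a i)).rev (α⁻¹ * t) * n'⁻¹ = Φ.eg (Φ.p i) t := Subtype.ext (by
    show n * Φ.toAlg.xg _ _ * n⁻¹ = _
    rw [hα, ha, ← mul_assoc, mul_inv_cancel₀ hα0, one_mul]; rfl)
  rw [e1] at ht'
  rw [show θ (Φ.eg (Φ.p i) t) = n' * (n'⁻¹ * θ (Φ.eg (Φ.p i) t) * n') * n'⁻¹ by group, ht']
  refine Subtype.ext ?_
  show n * Φ.toAlg.xg _ _ * n⁻¹ = _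
  rw [hβ]
  have := ha (a.symm k)
  rw [Equiv.apply_symm_apply] at this
  rw [this]
  rfl

theorem not_commute_opposite (i : Fin D.rank) :
    ¬ Commute (Φ.toAlg.xg (F := F) (Φ.p i) 1) (Φ.toAlg.xg (Φ.p i).rev (-1)) := by
  intro h
  have hn : Φ.nw (Φ.p i) (1 : Fˣ) * Φ.toAlg.xg (Φ.p i) 1 = Φ.toAlg.xg (Φ.p i) 1 * Φ.nw (Φ.p i) 1 := by
    simp only [nw, Units.val_one]
    rw [show ((1 : F))⁻¹ = 1 from _root_.inv_one]
    exact (((Commute.refl _).mul_left h.symm).mul_left (Commute.refl _)).eq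
  rw [Φ.nw_xg_self, mul_left_inj] at hn
  exact Φ.toSys.rev_ne _ (Φ.root_eq_of_xg_eq (by simp) hn)

theorem commute_opposite_ne {i j : Fin D.rank} (h : i ≠ j) (a b : F) :
    Commute (Φ.toAlg.xg (Φ.p i) a) (Φ.toAlg.xg (Φ.p j).rev b) := by
  refine Φ.toAlg.xg_commute ?_ ?_ a b
  · intro e
    have := Fin.rev_injective e
    have h1 := Φ.V_p j j
    rw [this, Φ.V_p, if_pos rfl, if_neg h] at h1
    exact zero_ne_one h1
  · by_contra hN
    have hi := Φ.V_add _ _ hN i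
    have hj := Φ.V_add _ _ hN j
    rw [Φ.V_neg, Φ.V_p, Φ.V_p, if_pos rfl, if_neg (Ne.symm h)] at hi
    rw [Φ.V_neg, Φ.V_p, Φ.V_p, if_pos rfl, if_neg h] at hj
    by_cases hp : Φ.toTables.Pos (Φ.S (Φ.p i) (Φ.p j).rev)
    · have := Φ.V_nonneg _ hp j; omega
    · have := Φ.V_nonpos _ hp i; omega

theorem Fix.exists_perm (hθ : Fix θ) : ∃ σ : Equiv.Perm (Fin D.rank), ∀ i, ∃ f g : F → F,
    (∀ t, θ (Φ.eg (Φ.p i) t) = Φ.eg (Φ.p (σ i)) (f t)) ∧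
    ∀ t, θ (Φ.eg (Φ.p i).rev t) = Φ.eg (Φ.p (σ i)).rev (g t) := by
  choose σ f hf using fun i => Fix.exists_pos Φ hθ i
  choose ρ g hg using fun i => Fix.exists_neg Φ hθ i
  have hρ : ∀ i, ρ i = σ i := by
    intro i
    by_contra hne
    apply Φ.not_commute_opposite (F := F) i
    have hc : Commute (θ (Φ.eg (Φ.p i) 1)) (θ (Φ.eg (Φ.p i).rev (-1))) := by
      rw [hf, hg]
      exact Subtype.ext (Φ.commute_opposite_ne (Ne.symm hne) _ _).eq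
    have hc' := hc.map θ.symm
    simp only [MulEquiv.symm_apply_apply] at hc'
    exact congrArg Subtype.val hc'.eq
  choose τ f' hf' using fun i => Fix.exists_pos Φ hθ.symm i
  have hτ : ∀ i, τ (σ i) = i := fun i => by
    have h := hf' (σ i) (f i 1)
    rw [← hf, MulEquiv.symm_apply_apply] at h
    exact (congrArg id (show Φ.p i = Φ.p (τ (σ i)) from Φ.eg_root one_ne_zero h) |> fun e => by
      by_contra hne
      have h1 := Φ.V_p i i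
      rw [show Φ.p i = Φ.p (τ (σ i)) from e, Φ.V_p, if_pos rfl, if_neg hne] at h1
      exact zero_ne_one h1)
  refine ⟨Equiv.ofBijective σ (Finite.injective_iff_bijective.1 fun a b e => by rw [← hτ a, ← hτ b, e]),
    fun i => ⟨f i, g i, hf i, fun t => ?_⟩⟩
  rw [hg, hρ]
  rfl

end Chev

end CfsgLib.Chev
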