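/-
An automorphism acts on a pair of opposite fundamental root subgroups by a constant and a field automorphism.
-/
import Cfsg.Agent.Lib.Chev.Aut.Roots
import Cfsg.Agent.Lib.Chev.SteinbergCoverRels
import Mathlib.FieldTheory.Finite.Basic

namespace CfsgLib.Chev

open Cfsg.Lie Matrix

set_option linter.dupNamespace false
set_option linter.unusedSectionVars false

variable {D : ChevalleyDatum}

namespace Chev

variable (Φ : Chev D) {F : Type*} [Field F]

theorem X_col_rev (r : Fin D.nroots) (c : F) (j : Fin D.rank) :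
    Φ.toSys.X F r c (Sum.inl j) (Sum.inr r.rev) = c * (Φ.C r j : F) := by
  simp [Sys.X, Sys.E, Finset.sum_range_succ, Φ.toSys.rev_ne r]

theorem X_col_rev' (r u : Fin D.nroots) (c : F) :
    Φ.toSys.X F r c (Sum.inr u) (Sum.inr r.rev) = if u = r.rev then 1 else if u = r then -c ^ 2 else 0 := by
  by_cases h1 : u = r.rev
  · subst h1; simp [Sys.X, Sys.E, Finset.sum_range_succ, Φ.toSys.rev_ne r]
  · by_cases h2 : u = r
    · subst h2; simp [Sys.X, Sys.E, Finset.sum_range_succ, Φ.toSys.rev_ne u, h1]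
    · simp [Sys.X, Sys.E, Finset.sum_range_succ, Φ.toSys.rev_ne r, h1, h2]

theorem X_col_self (r : Fin D.nroots) (d : F) (x : D.Idx) :
    Φ.toSys.X F r d x (Sum.inr r) = if x = Sum.inr r then 1 else 0 := by
  rcases x with j | u
  · simp [Sys.X, Sys.E, Finset.sum_range_succ]
  · by_cases h : u = r
    · subst h; simp [Sys.X, Sys.E, Finset.sum_range_succ]
    · simp [Sys.X, Sys.E, Finset.sum_range_succ, h]

theorem X_inl_inl (r : Fin D.nroots) (d : F) (i j : Fin D.rank) :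
    Φ.toSys.X F r d (Sum.inl i) (Sum.inl j) = if i = j then 1 else 0 := by
  simp [Sys.X, Sys.E, Finset.sum_range_succ]

/-- Conjugates of opposite root elements stay in their root subgroup only trivially. -/
theorem conj_opposite {r : Fin D.nroots} {c d d' : F}
    (h : Φ.toAlg.xg r c * Φ.toAlg.xg r.rev d = Φ.toAlg.xg r.rev d' * Φ.toAlg.xg r c) : c = 0 ∨ d' = 0 := by
  obtain ⟨i, hi⟩ := Φ.exists_C_ne_zero (F := F) r
  have h' := congrArg (fun g : GL D.Idx F => (g : Matrix D.Idx D.Idx F) (Sum.inl i) (Sum.inr r.rev)) h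
  simp only [Units.val_mul, Alg.xg_val, Matrix.mul_apply] at h'
  have hl : ∑ z, Φ.toSys.X F r c (Sum.inl i) z * Φ.toSys.X F r.rev d z (Sum.inr r.rev) = c * (Φ.C r i : F) := by
    rw [Finset.sum_eq_single (Sum.inr r.rev)]
    · rw [X_col_self Φ, if_pos rfl, mul_one, X_col_rev Φ]
    · intro z _ hz; rw [X_col_self Φ, if_neg hz, mul_zero]
    · simp
  rw [hl, Fintype.sum_sum_type] at h'
  rw [Finset.sum_eq_single i (fun j _ hj => by rw [X_inl_inl Φ, if_neg (Ne.symm hj), zero_mul]) (by simp),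
    X_inl_inl Φ, if_pos rfl, one_mul, X_col_rev Φ] at h'
  rw [Fintype.sum_eq_add r.rev r (Φ.toSys.rev_ne r) (fun u hu => by
    rw [X_col_rev' Φ, if_neg hu.1, if_neg hu.2, mul_zero])] at h'
  rw [X_col_rev' Φ, X_col_rev' Φ, if_pos rfl, if_neg (Ne.symm (Φ.toSys.rev_ne r)), if_pos rfl, X_col_self Φ,
    if_neg (by simp), zero_mul, zero_add] at h'
  have h2 := Φ.toAlg.xg_val r.rev d'
  have h3 : Φ.toSys.X F r.rev d' (Sum.inl i) (Sum.inr r) = d' * (Φ.C r.rev i : F) := by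
    have := X_col_rev Φ r.rev d' i
    rwa [Fin.rev_rev] at this
  rw [h3, Φ.C_neg, Int.cast_neg] at h'
  have : c ^ 2 * (d' * (Φ.C r i : F)) = 0 := by linear_combination -h'
  rcases mul_eq_zero.1 this with e | e
  · exact Or.inl (by simpa using e)
  · exact Or.inr ((mul_eq_zero.1 e).resolve_right hi)

/-- The element `x(a) y(b) x(a)` carries `X_r` to `X_{-r}` only for `b = -1/a`. -/
theorem eq_inv_of_conj {r : Fin D.nroots} {a b v w : F} (ha : a ≠ 0) (hv : v ≠ 0)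
    (h : Φ.toAlg.xg r a * Φ.toAlg.xg r.rev b * Φ.toAlg.xg r a * Φ.toAlg.xg r v *
      (Φ.toAlg.xg r a * Φ.toAlg.xg r.rev b * Φ.toAlg.xg r a)⁻¹ = Φ.toAlg.xg r.rev w) : b = -a⁻¹ := by
  rcases eq_or_ne b 0 with rfl | hb
  · exfalso
    rw [Φ.toAlg.xg_zero, mul_one, ← Φ.toAlg.xg_add, ← Φ.toAlg.xg_add, ← Φ.toAlg.xg_neg, ← Φ.toAlg.xg_add,
      show a + a + v + -(a + a) = v by ring] at h
    exact Φ.toSys.rev_ne r (Φ.root_eq_of_xg_eq hv h).symm
  set s : Fˣ := Units.mk0 (-b⁻¹) (by simp [hb])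
  have e1 : Φ.toAlg.xg r a * Φ.toAlg.xg r.rev b * Φ.toAlg.xg r a =
      Φ.toAlg.xg r (a + b⁻¹) * Φ.nw r s * Φ.toAlg.xg r (a + b⁻¹) := by
    conv_rhs => arg 2; rw [add_comm]
    simp only [nw, s, Units.val_mk0, inv_neg, inv_inv, neg_neg, Φ.toAlg.xg_add, Φ.toAlg.xg_neg]
    group
  set c := a + b⁻¹ with hc
  have e2 : Φ.toAlg.xg r c * Φ.nw r s * Φ.toAlg.xg r c * Φ.toAlg.xg r v *
      (Φ.toAlg.xg r c * Φ.nw r s * Φ.toAlg.xg r c)⁻¹ =
      Φ.toAlg.xg r c * (Φ.nw r s * Φ.toAlg.xg r v * (Φ.nw r s)⁻¹) * (Φ.toAlg.xg r c)⁻¹ := by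
    have hcv : Φ.toAlg.xg r c * Φ.toAlg.xg r v = Φ.toAlg.xg r v * Φ.toAlg.xg r c := by
      rw [← Φ.toAlg.xg_add, ← Φ.toAlg.xg_add, add_comm]
    calc _ = Φ.toAlg.xg r c * Φ.nw r s * (Φ.toAlg.xg r c * Φ.toAlg.xg r v) *
          (Φ.toAlg.xg r c)⁻¹ * (Φ.nw r s)⁻¹ * (Φ.toAlg.xg r c)⁻¹ := by group
      _ = _ := by rw [hcv]; group
  rw [e1, e2, Φ.nw_xg_val, mul_inv_eq_iff_eq_mul] at h
  have hc0 : c = 0 := by
    rcases Φ.conj_opposite h with e | e
    · exact e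
    · exfalso
      rw [e, Φ.toAlg.xg_zero, one_mul] at h
      have h2 : Φ.toAlg.xg r.rev (-((s : F)⁻¹ ^ 2 * v)) = 1 := mul_left_cancel (h.trans (mul_one _).symm)
      rw [Φ.toAlg.xg_eq_one_iff] at h2
      simp [hv] at h2
  rw [hc, add_eq_zero_iff_eq_neg] at hc0
  rw [hc0, inv_neg, inv_inv, neg_neg]

/-- A normalised pair of maps is one field automorphism. -/
theorem ringEquiv_of_pair [Finite F] {f g : F → F} (fadd : ∀ a b, f (a + b) = f a + f b)
    (gadd : ∀ a b, g (a + b) = g a + g b) (finj : Function.Injective f) (f1 : f 1 = 1)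
    (h1 : ∀ a, a ≠ 0 → g (-a⁻¹) = -(f a)⁻¹)
    (h2 : ∀ a u, a ≠ 0 → g (-(a⁻¹ ^ 2 * u)) = -((f a)⁻¹ ^ 2 * f u)) :
    ∃ τ : F ≃+* F, ∀ a, f a = τ a ∧ g a = τ a := by
  have f0 : f 0 = 0 := by simpa using fadd 0 0
  have g0 : g 0 = 0 := by simpa using gadd 0 0
  have gneg : ∀ a, g (-a) = - g a := fun a => by
    have := gadd a (-a)
    rw [add_neg_cancel, g0] at this
    exact eq_neg_of_add_eq_zero_right this.symm
  have hg : ∀ u, g u = f u := fun u => by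
    have := h2 1 u one_ne_zero
    rw [f1, gneg, _root_.inv_one, one_pow, one_mul, one_mul, neg_inj] at this
    exact this
  have finv : ∀ a, f a⁻¹ = (f a)⁻¹ := fun a => by
    rcases eq_or_ne a 0 with rfl | ha
    · simp [f0]
    · have := h1 a ha
      rwa [gneg, neg_inj, hg] at this
  have hsq : ∀ b u, f (b ^ 2 * u) = f b ^ 2 * f u := fun b u => by
    rcases eq_or_ne b 0 with rfl | hb
    · simp [f0]
    · have := h2 b⁻¹ u (inv_ne_zero hb)
      rwa [gneg, neg_inj, hg, inv_inv, finv, inv_inv] at this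
  have hmul : ∀ a b, f (a * b) = f a * f b := by
    intro a b
    by_cases h2 : ringChar F = 2
    · obtain ⟨c, hc⟩ := FiniteField.isSquare_of_char_two h2 a
      have e1 := hsq c 1
      rw [f1, mul_one, mul_one, sq, sq, ← hc] at e1
      rw [e1, hc, ← sq, hsq, sq]
    · have e := hsq (a + 1) b
      rw [show (a + 1) ^ 2 * b = a ^ 2 * b + (a * b + a * b) + b by ring, fadd, fadd, fadd, hsq, fadd a 1, f1] at e
      have h2' : (2 : F) ≠ 0 := Ring.two_ne_zero h2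
      refine mul_left_cancel₀ h2' ?_
      linear_combination e
  let φ : F →+* F :=
    { toFun := f, map_one' := f1, map_mul' := hmul, map_zero' := f0, map_add' := fadd }
  exact ⟨RingEquiv.ofBijective φ (Finite.injective_iff_bijective.1 finj), fun a => ⟨rfl, hg a⟩⟩

/-- `θ` sends `x_{±p_i}(t)` to `x_{±p_{σ i}}(c_i^{±1} τ_i(t))`. -/
def Normal (θ : ↥(D.group F) ≃* ↥(D.group F)) (σ : Equiv.Perm (Fin D.rank)) (c : Fin D.rank → Fˣ)
    (τ : Fin D.rank → F → F) : Prop :=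
  ∀ i t, θ (Φ.eg (Φ.p i) t) = Φ.eg (Φ.p (σ i)) ((c i : F) * τ i t) ∧
    θ (Φ.eg (Φ.p i).rev t) = Φ.eg (Φ.p (σ i)).rev (((c i)⁻¹ : Fˣ) * τ i t)

theorem exists_normal [Finite F] {θ : ↥(D.group F) ≃* ↥(D.group F)} (hθ : Fix θ) :
    ∃ (σ : Equiv.Perm (Fin D.rank)) (c : Fin D.rank → Fˣ) (τ : Fin D.rank → F ≃+* F),
      Φ.Normal θ σ c fun i => τ i := by
  obtain ⟨σ, hσ⟩ := Fix.exists_perm Φ hθ
  have key : ∀ i, ∃ c : Fˣ, ∃ τ : F ≃+* F, ∀ t, θ (Φ.eg (Φ.p i) t) = Φ.eg (Φ.p (σ i)) ((c : F) * τ t) ∧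
      θ (Φ.eg (Φ.p i).rev t) = Φ.eg (Φ.p (σ i)).rev ((c⁻¹ : Fˣ) * τ t) := by
    intro i
    obtain ⟨f, g, hf, hg⟩ := hσ i
    have fadd : ∀ a b, f (a + b) = f a + f b := fun a b => Φ.eg_inj (by
      rw [← hf, Φ.eg_add, map_mul, hf, hf, ← Φ.eg_add])
    have gadd : ∀ a b, g (a + b) = g a + g b := fun a b => Φ.eg_inj (by
      rw [← hg, Φ.eg_add, map_mul, hg, hg, ← Φ.eg_add])
    have finj : Function.Injective f := fun a b h => Φ.eg_inj (r := Φ.p i) (θ.injective (by rw [hf, hf, h]))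
    have fne : ∀ a, a ≠ 0 → f a ≠ 0 := fun a ha h => by
      have := congrArg θ.symm (hf a)
      rw [MulEquiv.symm_apply_apply, h, show Φ.eg (Φ.p (σ i)) (0 : F) = 1 from Φ.eg_eq_one_iff.2 rfl, map_one,
        Φ.eg_eq_one_iff] at this
      exact ha this
    set r := Φ.p i
    set r' := Φ.p (σ i)
    have hrel : ∀ a u, a ≠ 0 →
        Φ.toAlg.xg r' (f a) * Φ.toAlg.xg r'.rev (g (-a⁻¹)) * Φ.toAlg.xg r' (f a) * Φ.toAlg.xg r' (f u) *
          (Φ.toAlg.xg r' (f a) * Φ.toAlg.xg r'.rev (g (-a⁻¹)) * Φ.toAlg.xg r' (f a))⁻¹ =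
          Φ.toAlg.xg r'.rev (g (-(a⁻¹ ^ 2 * u))) := by
      intro a u ha
      have e : Φ.eg r a * Φ.eg r.rev (-a⁻¹) * Φ.eg r a * Φ.eg r u *
          (Φ.eg r a * Φ.eg r.rev (-a⁻¹) * Φ.eg r a)⁻¹ = Φ.eg r.rev (-(a⁻¹ ^ 2 * u)) :=
        Subtype.ext (Φ.nw_xg_val r (Units.mk0 a ha) u)
      have := congrArg θ e
      simp only [map_mul, map_inv, hf, hg] at this
      exact congrArg Subtype.val this
    have hinv : ∀ a, a ≠ 0 → g (-a⁻¹) = -(f a)⁻¹ := fun a ha =>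
      Φ.eq_inv_of_conj (fne a ha) (fne 1 one_ne_zero) (hrel a 1 ha)
    have hsq : ∀ a u, a ≠ 0 → g (-(a⁻¹ ^ 2 * u)) = -((f a)⁻¹ ^ 2 * f u) := fun a u ha => by
      have := hrel a u ha
      rw [hinv a ha] at this
      refine (Φ.toAlg.xg_injective r'.rev (this.symm.trans ?_))
      exact Φ.nw_xg_val r' (Units.mk0 (f a) (fne a ha)) (f u)
    set c : Fˣ := Units.mk0 (f 1) (fne 1 one_ne_zero) with hc
    have hc0 : (c : F) ≠ 0 := c.ne_zero
    obtain ⟨τ, hτ⟩ := ringEquiv_of_pair (f := fun a => f a / (c : F)) (g := fun a => g a * (c : F))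
      (fun a b => by simp [fadd, add_div]) (fun a b => by simp [gadd, add_mul])
      (fun a b h => finj (by simpa [div_left_inj' hc0] using h)) (div_self hc0)
      (fun a ha => by
        show g (-a⁻¹) * (c : F) = -(f a / (c : F))⁻¹
        rw [hinv a ha, inv_div]; field_simp)
      (fun a u ha => by
        show g (-(a⁻¹ ^ 2 * u)) * (c : F) = -((f a / (c : F))⁻¹ ^ 2 * (f u / (c : F)))
        rw [hsq a u ha]; field_simp)
    refine ⟨c, τ, fun t => ⟨?_, ?_⟩⟩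
    · rw [hf, ← (hτ t).1, mul_div_cancel₀ _ hc0]
    · rw [hg, ← (hτ t).2, Units.val_inv_eq_inv_val, mul_comm (g t), inv_mul_cancel_left₀ hc0]
  choose c τ h using key
  exact ⟨σ, c, τ, h⟩

end Chev

end CfsgLib.Chev
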