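/-
The diagram symmetry and the field automorphisms of a normalised automorphism; graph automorphisms on generators.
-/
import Cfsg.Agent.Lib.Chev.Aut.RankOne
import Cfsg.Agent.Lib.Chev.Steinberg
import Cfsg.Agent.Lib.Chev.WPerm
import Cfsg.Prelude.Def_ChevAutomorphisms

namespace CfsgLib.Chev

open Cfsg.Lie Matrix

set_option linter.dupNamespace false
set_option linter.unusedSectionVars false

variable {D : ChevalleyDatum}

/-- The Cartan integer of two nodes, read off the datum. -/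
def cartN (D : ChevalleyDatum) (i j : Fin D.rank) : ℤ := D.cartan i.val (D.simple j.val)

/-- Adjacency of nodes. -/
def adjN (D : ChevalleyDatum) (i j : Fin D.rank) : Bool := i != j && cartN D i j != 0

namespace Chev

variable (Φ : Chev D) {F : Type*} [Field F]

theorem cartN_eq (i j : Fin D.rank) : cartN D i j = Φ.A i (Φ.p j) := by
  rw [cartN, Φ.simple_val, Φ.cartan_val]

theorem p_inj {i j : Fin D.rank} (h : Φ.p i = Φ.p j) : i = j := by
  by_contra hne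
  have h1 := Φ.V_p i i
  rw [h, Φ.V_p, if_pos rfl, if_neg (Ne.symm hne)] at h1
  exact zero_ne_one h1

theorem commute_of_cart_zero {i j : Fin D.rank} (h : i ≠ j) (hA : Φ.A i (Φ.p j) = 0) (a b : F) :
    Commute (Φ.toAlg.xg (Φ.p i) a) (Φ.toAlg.xg (Φ.p j) b) := by
  refine Φ.toAlg.xg_commute ?_ ?_ a b
  · intro e
    have := Φ.pos_rev_iff (Φ.p i)
    rw [← e] at this
    exact this.1 (Φ.p_pos j) (Φ.p_pos i)
  · by_contra hN
    set r := Φ.S (Φ.p i) (Φ.p j)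
    have hV : ∀ m, Φ.V r m = (if i = m then 1 else 0) + if j = m then 1 else 0 := fun m => by
      rw [Φ.V_add _ _ hN m, Φ.V_p, Φ.V_p]
    have hAr : Φ.A i r = 2 := by
      rw [Φ.A_lin]
      simp only [hV, add_mul, Finset.sum_add_distrib, ite_mul, one_mul, zero_mul, Finset.sum_ite_eq,
        Finset.mem_univ, if_true, hA, add_zero, Φ.A_pp]
    have h1 := Φ.V_refl i r i
    have h2 := Φ.V_refl i r j
    rw [if_pos rfl, hAr, hV, if_pos rfl, if_neg (Ne.symm h)] at h1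
    rw [if_neg (Ne.symm h), hV, if_neg h, if_pos rfl] at h2
    by_cases hp : Φ.toTables.Pos (Φ.refl i r)
    · have := Φ.V_nonneg _ hp i; omega
    · have := Φ.V_nonpos _ hp j; omega

theorem cart_zero_of_commute {i j : Fin D.rank} (h : i ≠ j) {a b : F} (ha : a ≠ 0) (hb : b ≠ 0)
    (hc : Commute (Φ.toAlg.xg (Φ.p i) a) (Φ.toAlg.xg (Φ.p j) b)) : Φ.A i (Φ.p j) = 0 := by
  set t : Fˣ := Units.mk0 a ha
  have hn : Commute (Φ.nw (Φ.p i) t) (Φ.toAlg.xg (Φ.p j) b) :=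
    (hc.mul_left (Φ.commute_opposite_ne (Ne.symm h) b (-(t : F)⁻¹)).symm).mul_left hc
  obtain ⟨α, -, hα, -⟩ := (Φ.mono_nw_p (F := F) i t).1 (Φ.p j)
  have h1 := hα b
  rw [hn.eq, mul_inv_cancel_right] at h1
  have h2 : Φ.refl i (Φ.p j) = Φ.p j := (Φ.root_eq_of_xg_eq hb h1).symm
  have h3 := Φ.V_refl i (Φ.p j) i
  rw [h2, if_pos rfl] at h3
  omega

variable {θ : ↥(D.group F) ≃* ↥(D.group F)} {σ : Equiv.Perm (Fin D.rank)} {c : Fin D.rank → Fˣ}
  {τ : Fin D.rank → F ≃+* F}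

theorem Normal.pos (h : Φ.Normal θ σ c fun i => τ i) (i : Fin D.rank) (t : F) :
    θ (Φ.eg (Φ.p i) t) = Φ.eg (Φ.p (σ i)) ((c i : F) * τ i t) := (h i t).1

theorem Normal.neg (h : Φ.Normal θ σ c fun i => τ i) (i : Fin D.rank) (t : F) :
    θ (Φ.eg (Φ.p i).rev t) = Φ.eg (Φ.p (σ i)).rev (((c i)⁻¹ : Fˣ) * τ i t) := (h i t).2

theorem Normal.adj_iff (h : Φ.Normal θ σ c fun i => τ i) {i j : Fin D.rank} (hne : i ≠ j) :
    Φ.A i (Φ.p j) = 0 ↔ Φ.A (σ i) (Φ.p (σ j)) = 0 := by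
  have e : ∀ k, θ (Φ.eg (Φ.p k) 1) = Φ.eg (Φ.p (σ k)) (c k : F) := fun k => by
    rw [Normal.pos Φ h, map_one, mul_one]
  have hne' : σ i ≠ σ j := σ.injective.ne hne
  constructor <;> intro hA
  · have hc : Commute (Φ.eg (Φ.p i) (1 : F)) (Φ.eg (Φ.p j) 1) :=
      Subtype.ext (Φ.commute_of_cart_zero hne hA 1 1).eq
    have := hc.map θ
    rw [e, e] at this
    exact Φ.cart_zero_of_commute hne' (c i).ne_zero (c j).ne_zero (congrArg Subtype.val this.eq)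
  · have hc : Commute (Φ.eg (Φ.p (σ i)) (c i : F)) (Φ.eg (Φ.p (σ j)) (c j : F)) :=
      Subtype.ext (Φ.commute_of_cart_zero hne' hA _ _).eq
    have := hc.map θ.symm
    rw [← e, ← e, MulEquiv.symm_apply_apply, MulEquiv.symm_apply_apply] at this
    exact Φ.cart_zero_of_commute hne one_ne_zero one_ne_zero (congrArg Subtype.val this.eq)

theorem Normal.adjN_eq (h : Φ.Normal θ σ c fun i => τ i) (i j : Fin D.rank) :
    adjN D (σ i) (σ j) = adjN D i j := by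
  rcases eq_or_ne i j with rfl | hne
  · simp [adjN]
  · have := Normal.adj_iff Φ h hne
    rw [adjN, adjN, Φ.cartN_eq, Φ.cartN_eq, bne_iff_ne.2 hne, bne_iff_ne.2 (σ.injective.ne hne),
      Bool.true_and, Bool.true_and]
    by_cases hA : Φ.A i (Φ.p j) = 0
    · rw [hA, this.1 hA]
    · rw [bne_iff_ne.2 hA, bne_iff_ne.2 (fun e => hA (this.2 e))]

/-- An element `h_p(a)` of the group. -/
def hg (i : Fin D.rank) (a : Fˣ) : ↥(D.group F) :=
  ⟨Φ.nw (Φ.p i) a * Φ.nw (Φ.p i) (-1), mul_mem (Φ.nw_mem_group _ _) (Φ.nw_mem_group _ _)⟩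

theorem hg_val (i : Fin D.rank) (a : Fˣ) : (Φ.hg i a : GL D.Idx F) = Φ.hw (Φ.p i) a := rfl

theorem Normal.map_hg (h : Φ.Normal θ σ c fun i => τ i) (i : Fin D.rank) (a : Fˣ) :
    θ (Φ.hg i a) = Φ.hg (σ i) (Units.map (τ i : F →* F) a) := by
  set u : Fˣ → Fˣ := fun b => c i * Units.map (τ i : F →* F) b
  have hn : ∀ b : Fˣ, θ ⟨Φ.nw (Φ.p i) b, Φ.nw_mem_group _ _⟩ = ⟨Φ.nw (Φ.p (σ i)) (u b), Φ.nw_mem_group _ _⟩ := by
    intro b
    rw [show (⟨Φ.nw (Φ.p i) b, Φ.nw_mem_group _ _⟩ : ↥(D.group F)) =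
      Φ.eg (Φ.p i) (b : F) * Φ.eg (Φ.p i).rev (-(b : F)⁻¹) * Φ.eg (Φ.p i) (b : F) from rfl, map_mul, map_mul,
      Normal.pos Φ h, Normal.neg Φ h]
    refine Subtype.ext ?_
    have e : ((c i)⁻¹ : Fˣ) * τ i (-(b : F)⁻¹) = -((u b : Fˣ) : F)⁻¹ := by
      simp [u, map_inv₀, mul_comm]
    show Φ.toAlg.xg _ _ * Φ.toAlg.xg _ _ * Φ.toAlg.xg _ _ = _
    rw [e]
    simp [nw, u]
  rw [show Φ.hg i a = (⟨Φ.nw (Φ.p i) a, Φ.nw_mem_group _ _⟩ : ↥(D.group F)) *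
    ⟨Φ.nw (Φ.p i) (-1), Φ.nw_mem_group _ _⟩ from rfl, map_mul, hn, hn]
  refine Subtype.ext ?_
  show Φ.nw _ _ * Φ.nw _ _ = Φ.hw _ _
  rw [Φ.nw_eq_hw_mul _ (u a), Φ.nw_eq_hw_mul _ (u (-1)), mul_assoc, ← mul_assoc (Φ.nw _ 1), Φ.nw_hw,
    mul_assoc (Φ.hw _ _) (Φ.nw _ 1), Φ.nw_sq, ← Φ.hw_mul, ← Φ.hw_mul]
  congr 1
  apply Units.ext
  simp only [u, Units.val_mul, Units.coe_map, Units.val_inv_eq_inv_val, Units.val_neg, Units.val_one,
    MonoidHom.coe_coe, map_neg, map_one]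
  have := (c i).ne_zero
  field_simp

theorem Normal.tau_rel (h : Φ.Normal θ σ c fun i => τ i) (i j : Fin D.rank) (a : Fˣ) :
    τ j (a : F) ^ Φ.A i (Φ.p j) = τ i (a : F) ^ Φ.A (σ i) (Φ.p (σ j)) := by
  have e : ∀ (k l : Fin D.rank) (b : Fˣ) (u : F),
      Φ.hg k b * Φ.eg (Φ.p l) u = Φ.eg (Φ.p l) ((b : F) ^ Φ.A k (Φ.p l) * u) * Φ.hg k b := by
    intro k l b u
    refine Subtype.ext ?_
    show Φ.hw _ _ * Φ.toAlg.xg _ _ = Φ.toAlg.xg _ _ * Φ.hw _ _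
    rw [Φ.hw_p, Φ.toAlg.torus_xg, Φ.toAlg.chi_cartanChar, Units.val_zpow_eq_zpow_val]
  have h1 := congrArg θ (e i j a 1)
  rw [map_mul, map_mul, Normal.map_hg Φ h, Normal.pos Φ h, Normal.pos Φ h, e, map_one, mul_one, mul_one] at h1
  have h2 := Φ.eg_inj (mul_right_cancel h1)
  rw [map_zpow₀, mul_comm] at h2
  simpa using (mul_left_cancel₀ (c j).ne_zero h2).symm

/-- Along an arrow with Cartan integer `-1` the field automorphism is a power of that of its origin. -/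
theorem Normal.tau_pow (h : Φ.Normal θ σ c fun i => τ i) {i j : Fin D.rank} (hA : cartN D i j = -1)
    {k : ℕ} (hA' : cartN D (σ i) (σ j) = -(k : ℤ)) (hk : 0 < k) (a : F) : τ j a = τ i a ^ k := by
  rw [Φ.cartN_eq] at hA hA'
  rcases eq_or_ne a 0 with rfl | ha
  · simp [hk.ne']
  · have := Normal.tau_rel Φ h i j (Units.mk0 a ha)
    rw [hA, hA', _root_.zpow_neg_one, _root_.zpow_neg, zpow_natCast, _root_.inv_inj] at this
    exact this

/-- `g` is the graph automorphism of `σ` on the generators. -/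
def GraphMap (g : ↥(D.group F) ≃* ↥(D.group F)) (σ : Equiv.Perm (Fin D.rank)) : Prop :=
  ∀ i t, g (Φ.eg (Φ.p i) t) = Φ.eg (Φ.p (σ i)) (t ^ D.graphExp (ringChar F) i (σ i)) ∧
    g (Φ.eg (Φ.p i).rev t) = Φ.eg (Φ.p (σ i)).rev (t ^ D.graphExp (ringChar F) i (σ i))

include Φ in
theorem neg_rev_val (r : Fin D.nroots) : D.neg r.val = r.rev.val := Φ.toSys.negIdx_eq r

theorem eq_eg_of_simple {g : ↥(D.group F)} {i : Fin D.rank} {t : F}
    (h : ((g : GL D.Idx F) : Matrix D.Idx D.Idx F) = D.x F (D.simple i) t) : g = Φ.eg (Φ.p i) t := by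
  rw [Φ.simple_val] at h
  exact Subtype.ext (Φ.toAlg.eq_xg_iff.1 h)

theorem eq_eg_of_neg {g : ↥(D.group F)} {i : Fin D.rank} {t : F}
    (h : ((g : GL D.Idx F) : Matrix D.Idx D.Idx F) = D.x F (D.neg (D.simple i)) t) :
    g = Φ.eg (Φ.p i).rev t := by
  rw [Φ.simple_val, Φ.neg_rev_val] at h
  exact Subtype.ext (Φ.toAlg.eq_xg_iff.1 h)

theorem x_simple (i : Fin D.rank) (t : F) :
    D.x F (D.simple i) t = ((Φ.eg (Φ.p i) t : GL D.Idx F) : Matrix D.Idx D.Idx F) := by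
  rw [Φ.simple_val, Φ.toAlg.x_val]; rfl

theorem x_neg_simple (i : Fin D.rank) (t : F) :
    D.x F (D.neg (D.simple i)) t = ((Φ.eg (Φ.p i).rev t : GL D.Idx F) : Matrix D.Idx D.Idx F) := by
  rw [Φ.simple_val, Φ.neg_rev_val, Φ.toAlg.x_val]; rfl

theorem GraphMap.isGraphAut {g : ↥(D.group F) ≃* ↥(D.group F)} (hg : Φ.GraphMap g σ)
    (hσ : D.IsDiagramSymmetry σ) : D.IsGraphAut g := by
  refine ⟨σ, hσ, fun x i t => ⟨fun hx => ?_, fun hx => ?_⟩⟩
  · rw [Φ.eq_eg_of_simple hx, (hg i t).1, Φ.x_simple]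
  · rw [Φ.eq_eg_of_neg hx, (hg i t).2, Φ.x_neg_simple]

theorem graphMap_of_sig {α : ↥(D.group F) ≃* ↥(D.group F)} {sig : List (ℕ × ℕ)}
    (hα : ∀ (g : ↥(D.group F)) (i : ℕ) (t : F), i < D.rank →
      (((g : GL D.Idx F) : Matrix D.Idx D.Idx F) = D.x F (D.simple i) t →
        ((α g : GL D.Idx F) : Matrix D.Idx D.Idx F) =
          D.x F (D.simple (sig.getD i (0, 1)).1) (t ^ (sig.getD i (0, 1)).2)) ∧
      (((g : GL D.Idx F) : Matrix D.Idx D.Idx F) = D.x F (D.neg (D.simple i)) t →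
        ((α g : GL D.Idx F) : Matrix D.Idx D.Idx F) =
          D.x F (D.neg (D.simple (sig.getD i (0, 1)).1)) (t ^ (sig.getD i (0, 1)).2)))
    (hsig : ∀ i : Fin D.rank, sig.getD i.val (0, 1) = ((σ i).val, D.graphExp (ringChar F) i (σ i))) :
    Φ.GraphMap α σ := by
  intro i t
  constructor
  · have := (hα (Φ.eg (Φ.p i) t) i.val t i.isLt).1 (Φ.x_simple i t).symm
    rw [hsig i, Φ.x_simple] at this
    exact Subtype.ext (Units.ext this)
  · have := (hα (Φ.eg (Φ.p i).rev t) i.val t i.isLt).2 (Φ.x_neg_simple i t).symm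
    rw [hsig i, Φ.x_neg_simple] at this
    exact Subtype.ext (Units.ext this)

theorem graphMap_refl (hexp : ∀ (c : ℕ) (i : Fin D.rank), D.graphExp c i i = 1) :
    Φ.GraphMap (MulEquiv.refl ↥(D.group F)) 1 := fun i t => by
  simp [hexp]

end Chev

end CfsgLib.Chev
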