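/-
The symmetries of the diagrams, by search, and the graph automorphisms attached to them.
-/
import Cfsg.Agent.Lib.Chev.Aut.Graph
import Cfsg.Agent.Lib.Chev.GraphAut

namespace CfsgLib.Chev

open Cfsg.Lie Matrix

set_option linter.dupNamespace false
set_option linter.unusedSectionVars false

variable {D : ChevalleyDatum}

/-- Adjacency of nodes given by numbers. -/
def adjNat (D : ChevalleyDatum) (i j : ℕ) : Bool := i != j && D.cartan i (D.simple j) != 0

/-- `v` can be the image of node `vals.length`. -/
def compat (D : ChevalleyDatum) (vals : List ℕ) (v : ℕ) : Bool :=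
  (List.range vals.length).all fun i =>
    vals.getD i 0 != v && adjNat D (vals.getD i 0) v == adjNat D i vals.length &&
      adjNat D v (vals.getD i 0) == adjNat D vals.length i

/-- All ways to complete a list of images to a symmetry. -/
def symSearch (D : ChevalleyDatum) : ℕ → List ℕ → List (List ℕ)
  | 0, vals => [vals]
  | m + 1, vals => ((List.range D.rank).filter (compat D vals)).flatMap fun v => symSearch D m (vals ++ [v])

/-- A permutation of the nodes as a list. -/
def permList (σ : Equiv.Perm (Fin D.rank)) : List ℕ := List.ofFn fun i => (σ i).val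

theorem permList_getD (σ : Equiv.Perm (Fin D.rank)) (i : Fin D.rank) : (permList σ).getD i.val 0 = (σ i).val := by
  simp [permList, List.getD_eq_getElem?_getD]

theorem mem_symSearch {σ : Equiv.Perm (Fin D.rank)} (h : ∀ i j, adjN D (σ i) (σ j) = adjN D i j) :
    permList σ ∈ symSearch D D.rank [] := by
  have e : ∀ i j : Fin D.rank, adjNat D i.val j.val = adjN D i j := fun i j => by
    rw [Bool.eq_iff_iff]
    simp [adjNat, adjN, cartN, ← Fin.val_inj]
  have main : ∀ m k, k + m = D.rank → permList σ ∈ symSearch D m ((permList σ).take k) := by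
    intro m
    induction m with
    | zero =>
      intro k hk
      rw [List.take_of_length_le (by simp [permList]; omega), symSearch]
      exact List.mem_singleton_self _
    | succ m ih =>
      intro k hk
      have hkl : k < D.rank := by omega
      have hlen : ((permList σ).take k).length = k := by simp [permList]; omega
      rw [symSearch, List.mem_flatMap]
      refine ⟨(σ ⟨k, hkl⟩).val, List.mem_filter.2 ⟨List.mem_range.2 (Fin.isLt _), ?_⟩, ?_⟩
      · rw [compat, List.all_eq_true]
        intro i hi
        rw [List.mem_range, hlen] at hi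
        have hg : ((permList σ).take k).getD i 0 = (σ ⟨i, by omega⟩).val := by
          rw [← permList_getD σ ⟨i, by omega⟩]
          simp [List.getD_eq_getElem?_getD, List.getElem?_take, hi]
        rw [hg, hlen, e, e, h, h, ← e, ← e]
        simp only [beq_self_eq_true, Bool.and_true, bne_iff_ne, ne_eq, Fin.val_inj, σ.injective.eq_iff,
          Fin.mk.injEq]
        omega
      · have : (permList σ).take k ++ [(σ ⟨k, hkl⟩).val] = (permList σ).take (k + 1) := by
          rw [List.take_succ_eq_append_getElem (by simp [permList]; omega)]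
          simp [permList]
        rw [this]
        exact ih (k + 1) (by omega)
  simpa using main D.rank 0 (by omega)

/-- The list preserves the numbers of bonds. -/
def bondsOK (D : ChevalleyDatum) (L : List ℕ) : Bool :=
  (List.range D.rank).all fun i => (List.range D.rank).all fun j =>
    i == j || decide (D.bonds (L.getD i 0) (L.getD j 0) = D.bonds i j)

theorem isDiagramSymmetry_of_list {σ : Equiv.Perm (Fin D.rank)} {L : List ℕ} (hσ : permList σ = L)
    (h : bondsOK D L = true) : D.IsDiagramSymmetry σ := by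
  intro i j hne
  simp only [bondsOK, List.all_eq_true, List.mem_range, Bool.or_eq_true, beq_iff_eq, decide_eq_true_eq] at h
  rcases h i.val i.isLt j.val j.isLt with e | e
  · exact absurd (Fin.ext e) hne
  · rwa [← hσ, permList_getD, permList_getD] at e

/-- The list preserves the Cartan integers and gives exponent one. -/
def cartOK (D : ChevalleyDatum) (L : List ℕ) : Bool :=
  (List.range D.rank).all fun i =>
    !(D.isLong (D.simple (L.getD i 0)) && !D.isLong (D.simple i)) &&
      (List.range D.rank).all fun j =>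
        decide (D.cartan (L.getD i 0) (D.simple (L.getD j 0)) = D.cartan i (D.simple j))

theorem cartOK_spec {σ : Equiv.Perm (Fin D.rank)} {L : List ℕ} (hσ : permList σ = L) (h : cartOK D L = true) :
    (∀ c (i : Fin D.rank), D.graphExp c i (σ i) = 1) ∧ ∀ i j, cartN D (σ i) (σ j) = cartN D i j := by
  simp only [cartOK, List.all_eq_true, List.mem_range, Bool.and_eq_true, Bool.not_eq_true', decide_eq_true_eq] at h
  constructor
  · intro c i
    have h1 := (h i.val i.isLt).1
    rw [← hσ, permList_getD] at h1
    rw [ChevalleyDatum.graphExp, h1]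
    rfl
  · intro i j
    have h1 := (h i.val i.isLt).2 j.val j.isLt
    rwa [← hσ, permList_getD, permList_getD] at h1

/-- A spanning tree by parents, every edge of which has a Cartan integer `-1`. -/
def treeOK (D : ChevalleyDatum) (par : List ℕ) : Bool :=
  (List.range D.rank).all fun i =>
    Nat.blt (par.getD i 0) D.rank && Nat.beq ((fun k => par.getD k 0)^[D.rank] i) 0 &&
      (Nat.beq (par.getD i 0) i || decide (D.cartan i (D.simple (par.getD i 0)) = -1) ||
        decide (D.cartan (par.getD i 0) (D.simple i) = -1))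

/-- The permutation of a table respects the signs of the roots. -/
def posCheck (D : ChevalleyDatum) (M : MorData) : Bool :=
  (List.range D.nroots).all fun r => decide (D.nroots ≤ 2 * r) == decide (D.nroots ≤ 2 * M.ρ r)

namespace Chev

variable (Φ : Chev D) {F : Type*} [Field F]
variable {θ : ↥(D.group F) ≃* ↥(D.group F)} {σ : Equiv.Perm (Fin D.rank)} {c : Fin D.rank → Fˣ}
  {τ : Fin D.rank → F ≃+* F}

theorem Normal.tau_const (h : Φ.Normal θ σ c fun i => τ i) (hrank : 0 < D.rank) {par : List ℕ}
    (hpar : treeOK D par = true) (hA : ∀ i j, cartN D (σ i) (σ j) = cartN D i j) (i : Fin D.rank) :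
    τ i = τ ⟨0, hrank⟩ := by
  simp only [treeOK, List.all_eq_true, List.mem_range, Bool.and_eq_true, Bool.or_eq_true, Nat.blt_eq,
    Nat.beq_eq, decide_eq_true_eq] at hpar
  have step : ∀ j : Fin D.rank, τ j = τ ⟨par.getD j.val 0, (hpar j.val j.isLt).1.1⟩ := by
    intro j
    rcases (hpar j.val j.isLt).2 with (e | e) | e
    · exact congrArg τ (Fin.ext e.symm)
    · refine RingEquiv.ext fun a => ?_
      have := Normal.tau_pow Φ h (i := j) (j := ⟨_, (hpar j.val j.isLt).1.1⟩) e (k := 1)
        (by rw [hA]; exact e) one_pos a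
      rw [pow_one] at this
      exact this.symm
    · refine RingEquiv.ext fun a => ?_
      have := Normal.tau_pow Φ h (i := ⟨_, (hpar j.val j.isLt).1.1⟩) (j := j) e (k := 1)
        (by rw [hA]; exact e) one_pos a
      rw [pow_one] at this
      exact this
  have main : ∀ (n : ℕ) (j : Fin D.rank) (hn : (fun k => par.getD k 0)^[n] j.val < D.rank),
      τ j = τ ⟨(fun k => par.getD k 0)^[n] j.val, hn⟩ := by
    intro n
    induction n with
    | zero => intro j hn; rfl
    | succ n ih =>
      intro j hn
      rw [step j, ih ⟨par.getD j.val 0, (hpar j.val j.isLt).1.1⟩ (by simpa [Function.iterate_succ_apply] using hn)]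
      exact congrArg τ (Fin.ext (by simp [Function.iterate_succ_apply]))
  have h0 := (hpar i.val i.isLt).1.2
  rw [main D.rank i (by rw [h0]; exact hrank)]
  exact congrArg τ (Fin.ext h0)

include Φ in
/-- An automorphism of a finite group mapping root elements to root elements of the same sign fixes `U` and `V`. -/
theorem fix_of_roots [Finite F] (φ : ↥(D.group F) ≃* ↥(D.group F))
    (h : ∀ r t, ∃ s u, (Φ.toTables.Pos r ↔ Φ.toTables.Pos s) ∧
      (φ (Φ.eg r t) : GL D.Idx F) = Φ.toAlg.xg s u) : Fix φ := by
  have key : ∀ (S : Fin D.nroots → Prop),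
      (∀ r t, S r → (φ (Φ.eg r t) : GL D.Idx F) ∈ Φ.US F S) →
      ∀ g : ↥(D.group F), (g : GL D.Idx F) ∈ Φ.US F S ↔ (φ g : GL D.Idx F) ∈ Φ.US F S := by
    intro S hS g
    have hle : Φ.US F S ≤ D.group F := by
      rw [US, Subgroup.closure_le]
      rintro _ ⟨r, t, -, rfl⟩
      exact Φ.toAlg.xg_mem_group r t
    have hfwd : ∀ y : ↥(D.group F), (y : GL D.Idx F) ∈ Φ.US F S → (φ y : GL D.Idx F) ∈ Φ.US F S := by
      have : ∀ x, x ∈ Φ.US F S → ∃ hx : x ∈ D.group F, (φ ⟨x, hx⟩ : GL D.Idx F) ∈ Φ.US F S := by
        intro x hx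
        induction hx using Subgroup.closure_induction with
        | mem y hy =>
          obtain ⟨r, t, hr, rfl⟩ := hy
          exact ⟨Φ.toAlg.xg_mem_group r t, hS r t hr⟩
        | one =>
          refine ⟨one_mem _, ?_⟩
          show (φ 1 : GL D.Idx F) ∈ _
          rw [map_one]
          exact one_mem _
        | mul a b _ _ ha hb =>
          obtain ⟨ha', ea⟩ := ha
          obtain ⟨hb', eb⟩ := hb
          refine ⟨mul_mem ha' hb', ?_⟩
          show (φ (⟨a, ha'⟩ * ⟨b, hb'⟩) : GL D.Idx F) ∈ _
          rw [map_mul]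
          exact mul_mem ea eb
        | inv a _ ha =>
          obtain ⟨ha', ea⟩ := ha
          refine ⟨inv_mem ha', ?_⟩
          show (φ (⟨a, ha'⟩⁻¹) : GL D.Idx F) ∈ _
          rw [map_inv]
          exact inv_mem ea
      intro y hy
      obtain ⟨_, h'⟩ := this y hy
      exact h'
    refine ⟨hfwd g, fun hg => ?_⟩
    let ψ : {y : ↥(D.group F) // (y : GL D.Idx F) ∈ Φ.US F S} → {y : ↥(D.group F) // (y : GL D.Idx F) ∈ Φ.US F S} :=
      fun y => ⟨φ y.1, hfwd y.1 y.2⟩
    obtain ⟨y, hy⟩ := (Finite.injective_iff_surjective.1 (fun a b e => Subtype.ext (φ.injective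
      (congrArg Subtype.val e)) : Function.Injective ψ)) ⟨φ g, hg⟩
    rw [← φ.injective (congrArg Subtype.val hy)]
    exact y.2
  constructor
  · rw [Φ.posUnipotent_eq_US]
    exact key _ fun r t hr => by
      obtain ⟨s, u, hs, e⟩ := h r t
      rw [e]; exact Φ.xg_mem_US (hs.1 hr) u
  · rw [Φ.negUnipotent_eq_US]
    exact key _ fun r t hr => by
      obtain ⟨s, u, hs, e⟩ := h r t
      rw [e]; exact Φ.xg_mem_US (fun hp => hr (hs.2 hp)) u

/-- A symmetry with a graph automorphism. -/
def GraphGood (F : Type*) [Field F] (σ : Equiv.Perm (Fin D.rank)) : Prop :=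
  D.IsDiagramSymmetry σ ∧ ∃ g : ↥(D.group F) ≃* ↥(D.group F), Φ.GraphMap g σ ∧ Fix g

theorem graphGood_of_mor [Finite F] {L : List ℕ} (hσ : permList σ = L) (hb : bondsOK D L = true) {p : ℕ}
    {M : MorData} {sig : List (ℕ × ℕ)} (hadj : adjCheck D = true) (hF : Chev.MorOK F p)
    (hM : M.check D p = true) (hv : valCheck D M sig = true) (hpos : posCheck D M = true)
    (hsig : ∀ i : Fin D.rank, sig.getD i.val (0, 1) = (L.getD i.val 0, D.graphExp (ringChar F) i (L.getD i.val 0))) :
    Φ.GraphGood F σ := by
  obtain ⟨α, hα⟩ := Φ.exists_mor_equiv (Φ.adj_of_check hadj) hF hM (Or.inr finite_group)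
  simp only [valCheck, List.all_eq_true, List.mem_range, Bool.and_eq_true, Nat.blt_eq, Nat.beq_eq,
    beq_iff_eq] at hv
  refine ⟨isDiagramSymmetry_of_list hσ hb, α, Φ.graphMap_of_sig (sig := sig) ?_ fun i => ?_, ?_⟩
  · intro g i t hi
    obtain ⟨⟨⟨⟨⟨⟨⟨h1, h2⟩, h3⟩, h4⟩, h5⟩, h6⟩, h7⟩, h8⟩ := hv i hi
    constructor <;> intro hg
    · rw [hα _ h1 t g hg, h3, h5, h7, Int.cast_one, one_mul]
    · rw [hα _ h2 t g hg, h4, h6, h8, Int.cast_one, one_mul]
  · rw [hsig i, ← hσ, permList_getD]
  · refine Φ.fix_of_roots α fun r t => ?_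
    have hlt := (Chev.check_root hM r.isLt).1
    refine ⟨⟨M.ρ r.val, hlt⟩, (M.e r.val : F) * t ^ M.l r.val, ?_, ?_⟩
    · simp only [posCheck, List.all_eq_true, List.mem_range, beq_iff_eq, decide_eq_decide] at hpos
      exact hpos r.val r.isLt
    · refine Units.ext ?_
      rw [hα r.val r.isLt t (Φ.eg r t) (Φ.toAlg.x_val r t).symm, Φ.toAlg.x_val' hlt]

theorem perm_eq_one_of_list (h : permList σ = List.range D.rank) : σ = 1 := by
  refine Equiv.ext fun i => Fin.ext ?_
  rw [← permList_getD σ i, h]
  simp [List.getD_eq_getElem?_getD]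

theorem graphGood_one (hexp : cartOK D (List.range D.rank) = true) : Φ.GraphGood F 1 := by
  refine ⟨fun i j _ => by simp, MulEquiv.refl _, ?_, ⟨fun g => Iff.rfl, fun g => Iff.rfl⟩⟩
  refine Φ.graphMap_refl fun c i => ?_
  have := (cartOK_spec (σ := (1 : Equiv.Perm (Fin D.rank))) (L := List.range D.rank) ?_ hexp).1 c i
  · simpa using this
  · exact List.ext_getElem (by simp [permList]) (fun n h1 h2 => by simp [permList])

end Chev

end CfsgLib.Chev
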