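/-
The diagram symmetries of the tabulated types and the extra tables of graph automorphisms of type D4.
-/
import Cfsg.Agent.Lib.Chev.Aut.Sym

namespace CfsgLib.Chev

open Cfsg.Lie Matrix

set_option maxRecDepth 100000

theorem symsG2 : symSearch Cfsg.Lie.chevG2 2 [] = [[0, 1], [1, 0]] := by decide +kernel
theorem symsB2 : symSearch Cfsg.Lie.chevB2 2 [] = [[0, 1], [1, 0]] := by decide +kernel
theorem symsD4 : symSearch Cfsg.Lie.chevD4 4 [] =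
    [[0, 1, 2, 3], [0, 1, 3, 2], [2, 1, 0, 3], [2, 1, 3, 0], [3, 1, 0, 2], [3, 1, 2, 0]] := by decide +kernel
theorem symsF4 : symSearch Cfsg.Lie.chevF4 4 [] = [[0, 1, 2, 3], [3, 2, 1, 0]] := by decide +kernel
theorem symsE6 : symSearch Cfsg.Lie.chevE6 6 [] = [[0, 1, 2, 3, 4, 5], [5, 1, 4, 3, 2, 0]] := by decide +kernel
theorem symsE7 : symSearch Cfsg.Lie.chevE7 7 [] = [[0, 1, 2, 3, 4, 5, 6]] := by decide +kernel
theorem symsE8 : symSearch Cfsg.Lie.chevE8 8 [] = [[0, 1, 2, 3, 4, 5, 6, 7]] := by decide +kernel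

theorem treeG2 : treeOK Cfsg.Lie.chevG2 [0, 0] = true := by decide +kernel
theorem treeB2 : treeOK Cfsg.Lie.chevB2 [0, 0] = true := by decide +kernel
theorem treeD4 : treeOK Cfsg.Lie.chevD4 [0, 0, 1, 1] = true := by decide +kernel
theorem treeF4 : treeOK Cfsg.Lie.chevF4 [0, 0, 1, 2] = true := by decide +kernel
theorem treeE6 : treeOK Cfsg.Lie.chevE6 [0, 3, 0, 2, 3, 4] = true := by decide +kernel
theorem treeE7 : treeOK Cfsg.Lie.chevE7 [0, 3, 0, 2, 3, 4, 5] = true := by decide +kernel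
theorem treeE8 : treeOK Cfsg.Lie.chevE8 [0, 3, 0, 2, 3, 4, 5, 6] = true := by decide +kernel

theorem vG2 : valCheck Cfsg.Lie.chevG2 morG2 [(1, 3), (0, 1)] = true := by decide +kernel

/-- The transposition of the nodes 2 and 3 in type D4. -/
def morD4c : MorData := ⟨[0, 1, 3, 2, 4, 5, 6, 8, 7, 9, 11, 10, 13, 12, 14, 16, 15, 17, 18, 19, 21, 20, 22, 23], [1, 1, 1, 1, 1, 1, 1, 1, 1, 1, 1, 1, 1, 1, 1, 1, 1, 1, 1, 1, 1, 1, 1, 1], [1, 1, 1, 1, 1, 1, 1, 1, 1, 1, 1, 1, 1, 1, 1, 1, 1, 1, 1, 1, 1, 1, 1, 1]⟩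

theorem checkMorD4c : morD4c.check Cfsg.Lie.chevD4 0 = true := by decide +kernel

theorem vD4c : valCheck Cfsg.Lie.chevD4 morD4c [(0, 1), (1, 1), (3, 1), (2, 1)] = true := by decide +kernel

/-- The transposition of the nodes 0 and 2 in type D4. -/
def morD4d : MorData := ⟨[0, 1, 2, 6, 7, 10, 3, 4, 8, 9, 5, 11, 12, 18, 14, 15, 19, 20, 13, 16, 17, 21, 22, 23], [1, 1, 1, 1, 1, 1, 1, 1, 1, 1, 1, 1, 1, 1, 1, 1, 1, 1, 1, 1, 1, 1, 1, 1], [1, 1, 1, -1, -1, 1, -1, -1, 1, 1, 1, 1, 1, 1, 1, 1, -1, -1, 1, -1, -1, 1, 1, 1]⟩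

theorem checkMorD4d : morD4d.check Cfsg.Lie.chevD4 0 = true := by decide +kernel

theorem vD4d : valCheck Cfsg.Lie.chevD4 morD4d [(2, 1), (1, 1), (0, 1), (3, 1)] = true := by decide +kernel

/-- The transposition of the nodes 0 and 3 in type D4. -/
def morD4e : MorData := ⟨[0, 1, 6, 3, 8, 11, 2, 7, 4, 9, 10, 5, 18, 13, 14, 19, 16, 21, 12, 15, 20, 17, 22, 23], [1, 1, 1, 1, 1, 1, 1, 1, 1, 1, 1, 1, 1, 1, 1, 1, 1, 1, 1, 1, 1, 1, 1, 1], [1, 1, -1, 1, -1, 1, -1, 1, -1, 1, 1, 1, 1, 1, 1, -1, 1, -1, 1, -1, 1, -1, 1, 1]⟩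

theorem checkMorD4e : morD4e.check Cfsg.Lie.chevD4 0 = true := by decide +kernel

theorem vD4e : valCheck Cfsg.Lie.chevD4 morD4e [(3, 1), (1, 1), (2, 1), (0, 1)] = true := by decide +kernel

end CfsgLib.Chev
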