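/-
The normal form of an automorphism, type by type.
-/
import Cfsg.Agent.Lib.Chev.Aut.SymData
import Mathlib.FieldTheory.Finite.Basic

namespace CfsgLib.Chev

open Cfsg.Lie Matrix

set_option linter.dupNamespace false
set_option linter.unusedSectionVars false
set_option maxRecDepth 100000

variable {D : ChevalleyDatum}

namespace Chev

variable (Φ : Chev D) {F : Type*} [Field F]
variable {θ : ↥(D.group F) ≃* ↥(D.group F)} {σ : Equiv.Perm (Fin D.rank)} {c : Fin D.rank → Fˣ}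
  {τ : Fin D.rank → F ≃+* F}

/-- The list `L` describes a symmetry with the right characteristic. -/
def Allowed (F : Type*) [Field F] (A : List (List ℕ × ℕ)) (σ : Equiv.Perm (Fin D.rank)) : Prop :=
  ∃ L ∈ A, permList σ = L.1 ∧ (L.2 = 0 ∨ ringChar F = L.2)

/-- The classification of normalised automorphisms of one type. -/
structure AutType (F : Type*) [Field F] (A : List (List ℕ × ℕ)) : Prop where
  rank_pos : 0 < D.rank
  classify : ∀ {θ : ↥(D.group F) ≃* ↥(D.group F)} {σ : Equiv.Perm (Fin D.rank)} {c : Fin D.rank → Fˣ}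
    {τ : Fin D.rank → F ≃+* F}, Φ.Normal θ σ c (fun i => τ i) →
      Allowed F A σ ∧ ∃ τ0 : F ≃+* F, ∀ i a, τ i a = τ0 a ^ D.graphExp (ringChar F) i (σ i)
  good : ∀ {σ : Equiv.Perm (Fin D.rank)}, Allowed F A σ → Φ.GraphGood F σ
  sym : ∀ L ∈ A, ∃ σ : Equiv.Perm (Fin D.rank), permList σ = L.1

theorem classify_cart (hrank : 0 < D.rank) {par : List ℕ} (hpar : treeOK D par = true) {L : List ℕ}
    (hσ : permList σ = L) (hL : cartOK D L = true) (h : Φ.Normal θ σ c fun i => τ i) :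
    ∃ τ0 : F ≃+* F, ∀ i a, τ i a = τ0 a ^ D.graphExp (ringChar F) i (σ i) := by
  obtain ⟨h1, h2⟩ := cartOK_spec hσ hL
  exact ⟨τ ⟨0, hrank⟩, fun i a => by rw [h1, pow_one, Normal.tau_const Φ h hrank hpar h2 i]⟩

theorem char_two_of_sq {τ₁ τ₂ : F ≃+* F} (h : ∀ a, τ₁ a = τ₂ a ^ 2) : ringChar F = 2 := by
  have h2 := h (1 + 1)
  rw [map_add, map_one, map_add, map_one] at h2
  have : (2 : F) = 0 := by linear_combination -h2
  exact CharP.ringChar_of_prime_eq_zero Nat.prime_two (by exact_mod_cast this)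

theorem char_three_or_card_two {τ₁ τ₂ : F ≃+* F} (h : ∀ a, τ₁ a = τ₂ a ^ 3) :
    ringChar F = 3 ∨ ((2 : F) = 0 ∧ ∀ a : F, a = 0 ∨ a = 1) := by
  have h2 := h (1 + 1)
  rw [map_add, map_one, map_add, map_one] at h2
  have h6 : (2 : F) * 3 = 0 := by linear_combination -h2
  rcases mul_eq_zero.1 h6 with e | e
  · refine Or.inr ⟨e, fun a => ?_⟩
    obtain ⟨b, rfl⟩ := τ₂.symm.surjective a
    have h3 := h (τ₂.symm b + 1)
    have h4 := h (τ₂.symm b)
    rw [map_add, map_one, map_add, map_one, h4, RingEquiv.apply_symm_apply] at h3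
    have : b * (b + 1) = 0 := by linear_combination -h3 - (b ^ 2 + b) * e
    rcases mul_eq_zero.1 this with e' | e'
    · left; rw [e', map_zero]
    · right
      have : b = 1 := by linear_combination e' - e
      rw [this, map_one]
  · exact Or.inl (CharP.ringChar_of_prime_eq_zero Nat.prime_three (by exact_mod_cast e))

theorem perfect_finite [Finite F] (p : ℕ) [Fact p.Prime] [CharP F p] : ∀ x : F, ∃ y : F, y ^ p = x := by
  intro x
  exact (Finite.injective_iff_surjective.1 (frobenius_inj F p)) x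

theorem comm_xg {r s : Fin D.nroots} (hrs : s ≠ r) (hneg : s ≠ r.rev) (t u : F) :
    Φ.toAlg.xg s u * Φ.toAlg.xg r t = Φ.toAlg.xg r t * Φ.toAlg.xg s u * Φ.tval t u (D.commTerms r.val s.val) := by
  refine Units.ext ?_
  simp only [Units.val_mul, Alg.xg_val, Φ.tval_val]
  exact Φ.commutator_formula hrs hneg t u

/-- The length-changing symmetry of type G2 is not realised over the field of two elements. -/
theorem not_swap_G2 (Φ : Chev Cfsg.Lie.chevG2) {θ : ↥(Cfsg.Lie.chevG2.group F) ≃* ↥(Cfsg.Lie.chevG2.group F)}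
    {σ : Equiv.Perm (Fin Cfsg.Lie.chevG2.rank)} {c : Fin Cfsg.Lie.chevG2.rank → Fˣ} {τ : Fin Cfsg.Lie.chevG2.rank → F ≃+* F}
    (h : Φ.Normal θ σ c fun i => τ i) (h0 : σ ⟨0, by decide⟩ = ⟨1, by decide⟩) (h1 : σ ⟨1, by decide⟩ = ⟨0, by decide⟩) (h2 : (2 : F) = 0)
    (hF : ∀ a : F, a = 0 ∨ a = 1) : False := by
  have one : ∀ a : F, a ≠ 0 → a = 1 := fun a ha => (hF a).resolve_left ha
  have hneg : (-1 : F) = 1 := by linear_combination -h2
  let i0 : Fin Cfsg.Lie.chevG2.rank := ⟨0, by decide⟩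
  let i1 : Fin Cfsg.Lie.chevG2.rank := ⟨1, by decide⟩
  replace h0 : σ i0 = i1 := h0
  replace h1 : σ i1 = i0 := h1
  let r6 : Fin Cfsg.Lie.chevG2.nroots := ⟨6, by decide⟩
  let r7 : Fin Cfsg.Lie.chevG2.nroots := ⟨7, by decide⟩
  let r8 : Fin Cfsg.Lie.chevG2.nroots := ⟨8, by decide⟩
  let r9 : Fin Cfsg.Lie.chevG2.nroots := ⟨9, by decide⟩
  let r10 : Fin Cfsg.Lie.chevG2.nroots := ⟨10, by decide⟩
  let r11 : Fin Cfsg.Lie.chevG2.nroots := ⟨11, by decide⟩
  have hp0 : Φ.p i0 = r7 :=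
    Fin.ext ((Φ.simple_val i0).symm.trans (show Cfsg.Lie.chevG2.simple 0 = 7 by decide +kernel))
  have hp1 : Φ.p i1 = r6 :=
    Fin.ext ((Φ.simple_val i1).symm.trans (show Cfsg.Lie.chevG2.simple 1 = 6 by decide +kernel))
  have hr0 : Φ.refl i0 r6 = r10 :=
    Fin.ext ((Φ.reflectRoot_eq i0 r6).symm.trans
      (show Cfsg.Lie.chevG2.reflectRoot 0 6 = 10 by decide +kernel))
  have hr1 : Φ.refl i1 r7 = r8 :=
    Fin.ext ((Φ.reflectRoot_eq i1 r7).symm.trans
      (show Cfsg.Lie.chevG2.reflectRoot 1 7 = 8 by decide +kernel))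
  let x : Fin Cfsg.Lie.chevG2.nroots → ↥(Cfsg.Lie.chevG2.group F) := fun r => Φ.eg r 1
  have hpos : ∀ i : Fin Cfsg.Lie.chevG2.rank, θ (x (Φ.p i)) = x (Φ.p (σ i)) := fun i => by
    show θ (Φ.eg _ 1) = Φ.eg _ 1
    rw [Normal.pos Φ h, map_one, mul_one, one _ (c i).ne_zero]
  let n : Fin Cfsg.Lie.chevG2.rank → ↥(Cfsg.Lie.chevG2.group F) := fun i => x (Φ.p i) * Φ.eg (Φ.p i).rev 1 * x (Φ.p i)
  have hnθ : ∀ i : Fin Cfsg.Lie.chevG2.rank, θ (n i) = n (σ i) := fun i => by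
    show θ (_ * Φ.eg _ 1 * _) = _
    rw [map_mul, map_mul, hpos, Normal.neg Φ h, map_one, mul_one, one _ ((c i)⁻¹).ne_zero]
  have hn : ∀ (i : Fin Cfsg.Lie.chevG2.rank) (s : Fin Cfsg.Lie.chevG2.nroots), n i * x s * (n i)⁻¹ = x (Φ.refl i s) := fun i s => by
    refine Subtype.ext ?_
    have e : ((n i : ↥(Cfsg.Lie.chevG2.group F)) : GL Cfsg.Lie.chevG2.Idx F) = Φ.nw (Φ.p i) 1 := by
      show Φ.toAlg.xg _ 1 * Φ.toAlg.xg _ 1 * Φ.toAlg.xg _ 1 = _
      simp [nw, hneg]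
    obtain ⟨α, hα, hα', -⟩ := (Φ.nw_one_mono (F := F) i).1 s
    rw [Subgroup.coe_mul, Subgroup.coe_mul, Subgroup.coe_inv, e]
    show Φ.nw _ 1 * Φ.toAlg.xg s 1 * _ = Φ.toAlg.xg _ 1
    rw [hα', one α hα, mul_one]
    rfl
  have e10 : θ (x r10) = x r8 := by
    rw [← hr0, ← hn, map_mul, map_mul, map_inv, hnθ, ← hp1, hpos, h1, h0, hn, hp0, hr1]
  have c1 : (↑(1 : ℤ) : F) = 1 := Int.cast_one
  have k1 : Φ.toAlg.xg r10 1 * Φ.toAlg.xg r6 1 =
      Φ.toAlg.xg r6 1 * Φ.toAlg.xg r10 1 * Φ.toAlg.xg r11 (1 : F) := by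
    rw [Φ.comm_xg (r := r6) (s := r10) (by decide) (by decide) 1 1,
      show Cfsg.Lie.chevG2.commTerms r6.val r10.val = [(11, 1, 1, 1)] by decide +kernel]
    congr 1
    simp [tval, hneg, r11, show (11 : ℕ) < Cfsg.Lie.chevG2.nroots by decide]
  have k2 : Φ.toAlg.xg r8 1 * Φ.toAlg.xg r7 1 =
      Φ.toAlg.xg r7 1 * Φ.toAlg.xg r8 1 * (Φ.toAlg.xg r10 1 * Φ.toAlg.xg r11 (1 : F)) := by
    rw [Φ.comm_xg (r := r7) (s := r8) (by decide) (by decide) 1 1,
      show Cfsg.Lie.chevG2.commTerms r7.val r8.val = [(9, -2, 1, 1), (10, -3, 2, 1), (11, 3, 1, 2)] by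
        decide +kernel]
    congr 1
    have h3 : (3 : F) = 1 := by linear_combination h2
    simp [tval, hneg, h2, h3, r10, r11, show (9 : ℕ) < Cfsg.Lie.chevG2.nroots by decide,
      show (10 : ℕ) < Cfsg.Lie.chevG2.nroots by decide, show (11 : ℕ) < Cfsg.Lie.chevG2.nroots by decide]
  have com : ∀ r s : Fin Cfsg.Lie.chevG2.nroots, s ≠ r → s ≠ r.rev →
      Cfsg.Lie.chevG2.commTerms r.val s.val = [] → Commute (Φ.toAlg.xg r (1 : F)) (Φ.toAlg.xg s 1) := by
    intro r s a b e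
    have := Φ.comm_xg (F := F) a b 1 1
    rw [e] at this
    simp [tval] at this
    exact this.symm
  have k1' : x r10 * x r6 = x r6 * x r10 * x r11 := Subtype.ext k1
  have e11 : θ (x r11) = x r10 * x r11 := by
    have h' := congrArg θ k1'
    rw [map_mul, map_mul, map_mul, e10, ← hp1, hpos, h1, hp0] at h'
    have k2' : x r8 * x r7 = x r7 * x r8 * (x r10 * x r11) := Subtype.ext k2
    exact mul_left_cancel (h'.symm.trans k2')
  have hc : Commute (x r11) (x r7) :=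
    Subtype.ext (com r7 r11 (by decide) (by decide) (by decide +kernel)).symm.eq
  have hc' := hc.map θ
  rw [e11, ← hp0, hpos, h0, hp1] at hc'
  have hc11 : Commute (x r11) (x r6) :=
    Subtype.ext (com r6 r11 (by decide) (by decide) (by decide +kernel)).symm.eq
  have hc10 : Commute (x r10) (x r6) := by
    have := hc'.mul_left hc11.inv_left
    rwa [mul_inv_cancel_right] at this
  have h11 : x r11 = 1 := by
    rw [hc10.eq] at k1'
    exact mul_left_cancel (k1'.symm.trans (mul_one _).symm)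
  exact one_ne_zero ((Φ.eg_eq_one_iff).1 h11)

end Chev

end CfsgLib.Chev
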