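/-
The classification of normalised automorphisms for each of the seven tabulated types.
-/
import Cfsg.Agent.Lib.Chev.Aut.Types

namespace CfsgLib.Chev

open Cfsg.Lie Matrix

set_option linter.dupNamespace false
set_option linter.unusedSectionVars false
set_option maxRecDepth 100000

variable {D : ChevalleyDatum}

/-- Allowed lists of the seven types, with the characteristic required. -/
def allowG2 : List (List ℕ × ℕ) := [([0, 1], 0), ([1, 0], 3)]
def allowB2 : List (List ℕ × ℕ) := [([0, 1], 0), ([1, 0], 2)]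
def allowD4 : List (List ℕ × ℕ) :=
  [([0, 1, 2, 3], 0), ([0, 1, 3, 2], 0), ([2, 1, 0, 3], 0), ([2, 1, 3, 0], 0), ([3, 1, 0, 2], 0), ([3, 1, 2, 0], 0)]
def allowF4 : List (List ℕ × ℕ) := [([0, 1, 2, 3], 0), ([3, 2, 1, 0], 2)]
def allowE6 : List (List ℕ × ℕ) := [([0, 1, 2, 3, 4, 5], 0), ([5, 1, 4, 3, 2, 0], 0)]
def allowE7 : List (List ℕ × ℕ) := [([0, 1, 2, 3, 4, 5, 6], 0)]
def allowE8 : List (List ℕ × ℕ) := [([0, 1, 2, 3, 4, 5, 6, 7], 0)]

/-- The sign data of a list of exponent-one images. -/
def sigOf (L : List ℕ) : List (ℕ × ℕ) := L.map fun i => (i, 1)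

namespace Chev

variable (Φ : Chev D) {F : Type*} [Field F]

theorem sigOf_spec {L : List ℕ} (hlen : L.length = D.rank) (hc : cartOK D L = true) {σ : Equiv.Perm (Fin D.rank)}
    (hσ : permList σ = L) (i : Fin D.rank) :
    (sigOf L).getD i.val (0, 1) = (L.getD i.val 0, D.graphExp (ringChar F) i (L.getD i.val 0)) := by
  have h1 := (cartOK_spec hσ hc).1 (ringChar F) i
  rw [← permList_getD σ i, hσ] at h1
  rw [h1]
  simp [sigOf, List.getD_eq_getElem?_getD, show i.val < L.length by omega]

theorem sym_of_inverse (L M : List ℕ) (hlen : L.length = D.rank)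
    (h : ∀ i < D.rank, L.getD i 0 < D.rank ∧ M.getD i 0 < D.rank ∧ M.getD (L.getD i 0) 0 = i ∧
      L.getD (M.getD i 0) 0 = i) : ∃ σ : Equiv.Perm (Fin D.rank), permList σ = L := by
  refine ⟨⟨fun i => ⟨L.getD i.val 0, (h i.val i.isLt).1⟩, fun i => ⟨M.getD i.val 0, (h i.val i.isLt).2.1⟩,
    fun i => Fin.ext (h i.val i.isLt).2.2.1, fun i => Fin.ext (h i.val i.isLt).2.2.2⟩, ?_⟩
  refine List.ext_getElem (by simp [permList, hlen]) fun n h1 h2 => ?_
  simp [permList, List.getD_eq_getElem?_getD, h2]

theorem one_or_of_search {A : List (List ℕ)} (hA : symSearch D D.rank [] = A) {θ : ↥(D.group F) ≃* ↥(D.group F)}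
    {σ : Equiv.Perm (Fin D.rank)} {c : Fin D.rank → Fˣ} {τ : Fin D.rank → F ≃+* F}
    (h : Φ.Normal θ σ c fun i => τ i) : permList σ ∈ A :=
  by rw [← hA]; exact mem_symSearch (Normal.adjN_eq Φ h)

theorem autType_E8 (Φ : Chev Cfsg.Lie.chevE8) (F : Type*) [Field F] [Finite F] : Φ.AutType F allowE8 where
  rank_pos := by decide
  classify {θ σ c τ} h := by
    have hσ : permList σ = [0, 1, 2, 3, 4, 5, 6, 7] := by simpa using Φ.one_or_of_search symsE8 h
    exact ⟨⟨_, List.mem_singleton_self _, hσ, Or.inl rfl⟩,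
      Φ.classify_cart (by decide) treeE8 hσ (by decide +kernel) h⟩
  good {σ} := by
    rintro ⟨L, hL, hσ, -⟩
    obtain rfl := List.mem_singleton.1 hL
    rw [perm_eq_one_of_list (hσ.trans (by decide +kernel))]
    exact Φ.graphGood_one (by decide +kernel)
  sym L hL := by
    obtain rfl := List.mem_singleton.1 hL
    exact sym_of_inverse _ [0, 1, 2, 3, 4, 5, 6, 7] (by decide) (by decide)

theorem autType_E7 (Φ : Chev Cfsg.Lie.chevE7) (F : Type*) [Field F] [Finite F] : Φ.AutType F allowE7 where
  rank_pos := by decide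
  classify {θ σ c τ} h := by
    have hσ : permList σ = [0, 1, 2, 3, 4, 5, 6] := by simpa using Φ.one_or_of_search symsE7 h
    exact ⟨⟨_, List.mem_singleton_self _, hσ, Or.inl rfl⟩,
      Φ.classify_cart (by decide) treeE7 hσ (by decide +kernel) h⟩
  good {σ} := by
    rintro ⟨L, hL, hσ, -⟩
    obtain rfl := List.mem_singleton.1 hL
    rw [perm_eq_one_of_list (hσ.trans (by decide +kernel))]
    exact Φ.graphGood_one (by decide +kernel)
  sym L hL := by
    obtain rfl := List.mem_singleton.1 hL
    exact sym_of_inverse _ [0, 1, 2, 3, 4, 5, 6] (by decide) (by decide)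

theorem autType_E6 (Φ : Chev Cfsg.Lie.chevE6) (F : Type*) [Field F] [Finite F] : Φ.AutType F allowE6 where
  rank_pos := by decide
  classify {θ σ c τ} h := by
    have hs := Φ.one_or_of_search symsE6 h
    simp only [List.mem_cons, List.not_mem_nil, or_false] at hs
    rcases hs with hσ | hσ
    · exact ⟨⟨([0, 1, 2, 3, 4, 5], 0), by simp [allowE6], hσ, Or.inl rfl⟩, Φ.classify_cart (by decide) treeE6 hσ (by decide +kernel) h⟩
    · exact ⟨⟨([5, 1, 4, 3, 2, 0], 0), by simp [allowE6], hσ, Or.inl rfl⟩,
        Φ.classify_cart (by decide) treeE6 hσ (by decide +kernel) h⟩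
  good {σ} := by
    rintro ⟨L, hL, hσ, -⟩
    simp only [allowE6, List.mem_cons, List.not_mem_nil, or_false] at hL
    rcases hL with rfl | rfl
    · rw [perm_eq_one_of_list (hσ.trans (by decide +kernel))]; exact Φ.graphGood_one (by decide +kernel)
    · exact Φ.graphGood_of_mor hσ (by decide +kernel) adjE6 (morOK_zero F) checkMorE6 vE6 (by decide +kernel)
        (sigOf_spec (by decide) (by decide +kernel) hσ)
  sym L hL := by
    simp only [allowE6, List.mem_cons, List.not_mem_nil, or_false] at hL
    rcases hL with rfl | rfl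
    · exact sym_of_inverse _ [0, 1, 2, 3, 4, 5] (by decide) (by decide)
    · exact sym_of_inverse _ [5, 1, 4, 3, 2, 0] (by decide) (by decide)

theorem autType_D4 (Φ : Chev Cfsg.Lie.chevD4) (F : Type*) [Field F] [Finite F] : Φ.AutType F allowD4 where
  rank_pos := by decide
  classify {θ σ c τ} h := by
    have hs := Φ.one_or_of_search symsD4 h
    simp only [List.mem_cons, List.not_mem_nil, or_false] at hs
    rcases hs with hσ | hσ | hσ | hσ | hσ | hσ <;>
      exact ⟨⟨(_, 0), by simp [allowD4], hσ, Or.inl rfl⟩,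
        Φ.classify_cart (by decide) treeD4 hσ (by decide +kernel) h⟩
  good {σ} := by
    rintro ⟨L, hL, hσ, -⟩
    simp only [allowD4, List.mem_cons, List.not_mem_nil, or_false] at hL
    rcases hL with rfl | rfl | rfl | rfl | rfl | rfl
    · rw [perm_eq_one_of_list (hσ.trans (by decide +kernel))]; exact Φ.graphGood_one (by decide +kernel)
    · exact Φ.graphGood_of_mor hσ (by decide +kernel) adjD4 (morOK_zero F) checkMorD4c vD4c (by decide +kernel)
        (sigOf_spec (by decide) (by decide +kernel) hσ)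
    · exact Φ.graphGood_of_mor hσ (by decide +kernel) adjD4 (morOK_zero F) checkMorD4d vD4d (by decide +kernel)
        (sigOf_spec (by decide) (by decide +kernel) hσ)
    · exact Φ.graphGood_of_mor hσ (by decide +kernel) adjD4 (morOK_zero F) checkMorD4a vD4a (by decide +kernel)
        (sigOf_spec (by decide) (by decide +kernel) hσ)
    · exact Φ.graphGood_of_mor hσ (by decide +kernel) adjD4 (morOK_zero F) checkMorD4b vD4b (by decide +kernel)
        (sigOf_spec (by decide) (by decide +kernel) hσ)
    · exact Φ.graphGood_of_mor hσ (by decide +kernel) adjD4 (morOK_zero F) checkMorD4e vD4e (by decide +kernel)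
        (sigOf_spec (by decide) (by decide +kernel) hσ)
  sym L hL := by
    simp only [allowD4, List.mem_cons, List.not_mem_nil, or_false] at hL
    rcases hL with rfl | rfl | rfl | rfl | rfl | rfl
    · exact sym_of_inverse _ [0, 1, 2, 3] (by decide) (by decide)
    · exact sym_of_inverse _ [0, 1, 3, 2] (by decide) (by decide)
    · exact sym_of_inverse _ [2, 1, 0, 3] (by decide) (by decide)
    · exact sym_of_inverse _ [3, 1, 0, 2] (by decide) (by decide)
    · exact sym_of_inverse _ [2, 1, 3, 0] (by decide) (by decide)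
    · exact sym_of_inverse _ [3, 1, 2, 0] (by decide) (by decide)

theorem autType_B2 (Φ : Chev Cfsg.Lie.chevB2) (F : Type*) [Field F] [Finite F] : Φ.AutType F allowB2 where
  rank_pos := by decide
  classify {θ σ c τ} h := by
    have hs := Φ.one_or_of_search symsB2 h
    simp only [List.mem_cons, List.not_mem_nil, or_false] at hs
    rcases hs with hσ | hσ
    · exact ⟨⟨([0, 1], 0), by simp [allowB2], hσ, Or.inl rfl⟩, Φ.classify_cart (by decide) treeB2 hσ (by decide +kernel) h⟩
    · have v : ∀ i : Fin Cfsg.Lie.chevB2.rank, (σ i).val = [1, 0].getD i.val 0 := fun i => by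
        rw [← hσ, permList_getD]
      let i0 : Fin Cfsg.Lie.chevB2.rank := ⟨0, by decide⟩
      let i1 : Fin Cfsg.Lie.chevB2.rank := ⟨1, by decide⟩
      have e0 : σ i0 = i1 := Fin.ext (v i0)
      have e1 : σ i1 = i0 := Fin.ext (v i1)
      have h10 : ∀ a, τ i0 a = τ i1 a ^ 2 := Normal.tau_pow Φ h (i := i1) (j := i0) (by decide +kernel)
        (k := 2) (by rw [e0, e1]; decide +kernel) two_pos
      have hchar := char_two_of_sq h10
      refine ⟨⟨([1, 0], 2), by simp [allowB2], hσ, Or.inr hchar⟩, τ i1, fun i a => ?_⟩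
      rw [hchar]
      obtain ⟨i, hi⟩ := i
      change i < 2 at hi
      interval_cases i
      · show τ i0 a = τ i1 a ^ Cfsg.Lie.chevB2.graphExp 2 i0.val (σ i0).val
        rw [e0, show Cfsg.Lie.chevB2.graphExp 2 i0.val i1.val = 2 by decide +kernel]
        exact h10 a
      · show τ i1 a = τ i1 a ^ Cfsg.Lie.chevB2.graphExp 2 i1.val (σ i1).val
        rw [e1, show Cfsg.Lie.chevB2.graphExp 2 i1.val i0.val = 1 by decide +kernel, pow_one]
  good {σ} := by
    rintro ⟨L, hL, hσ, hc⟩
    simp only [allowB2, List.mem_cons, List.not_mem_nil, or_false] at hL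
    rcases hL with rfl | rfl
    · rw [perm_eq_one_of_list (hσ.trans (by decide +kernel))]; exact Φ.graphGood_one (by decide +kernel)
    · have hchar : ringChar F = 2 := hc.resolve_left (by decide)
      haveI : CharP F 2 := ringChar.of_eq hchar
      haveI : Fact (Nat.Prime 2) := ⟨Nat.prime_two⟩
      refine Φ.graphGood_of_mor hσ (by decide +kernel) adjB2 (morOK_prime F 2 (perfect_finite 2)) checkMorB2 vB2 (by decide +kernel) ?_
      rw [hchar]
      decide +kernel
  sym L hL := by
    simp only [allowB2, List.mem_cons, List.not_mem_nil, or_false] at hL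
    rcases hL with rfl | rfl
    · exact sym_of_inverse _ [0, 1] (by decide) (by decide)
    · exact sym_of_inverse _ [1, 0] (by decide) (by decide)

theorem autType_F4 (Φ : Chev Cfsg.Lie.chevF4) (F : Type*) [Field F] [Finite F] : Φ.AutType F allowF4 where
  rank_pos := by decide
  classify {θ σ c τ} h := by
    have hs := Φ.one_or_of_search symsF4 h
    simp only [List.mem_cons, List.not_mem_nil, or_false] at hs
    rcases hs with hσ | hσ
    · exact ⟨⟨([0, 1, 2, 3], 0), by simp [allowF4], hσ, Or.inl rfl⟩, Φ.classify_cart (by decide) treeF4 hσ (by decide +kernel) h⟩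
    · have v : ∀ i : Fin Cfsg.Lie.chevF4.rank, (σ i).val = [3, 2, 1, 0].getD i.val 0 := fun i => by
        rw [← hσ, permList_getD]
      let i0 : Fin Cfsg.Lie.chevF4.rank := ⟨0, by decide⟩
      let i1 : Fin Cfsg.Lie.chevF4.rank := ⟨1, by decide⟩
      let i2 : Fin Cfsg.Lie.chevF4.rank := ⟨2, by decide⟩
      let i3 : Fin Cfsg.Lie.chevF4.rank := ⟨3, by decide⟩
      have e0 : σ i0 = i3 := Fin.ext (v i0)
      have e1 : σ i1 = i2 := Fin.ext (v i1)
      have e2 : σ i2 = i1 := Fin.ext (v i2)
      have e3 : σ i3 = i0 := Fin.ext (v i3)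
      have h21 : ∀ a, τ i1 a = τ i2 a ^ 2 := Normal.tau_pow Φ h (i := i2) (j := i1) (by decide +kernel)
        (k := 2) (by rw [e1, e2]; decide +kernel) two_pos
      have h32 : ∀ a, τ i2 a = τ i3 a ^ 1 := Normal.tau_pow Φ h (i := i3) (j := i2) (by decide +kernel)
        (k := 1) (by rw [e3, e2]; decide +kernel) one_pos
      have h10 : ∀ a, τ i0 a = τ i1 a ^ 1 := Normal.tau_pow Φ h (i := i1) (j := i0) (by decide +kernel)
        (k := 1) (by rw [e1, e0]; decide +kernel) one_pos
      have hchar := char_two_of_sq h21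
      refine ⟨⟨([3, 2, 1, 0], 2), by simp [allowF4], hσ, Or.inr hchar⟩, τ i3, fun i a => ?_⟩
      rw [hchar]
      obtain ⟨i, hi⟩ := i
      change i < 4 at hi
      interval_cases i
      · show τ i0 a = τ i3 a ^ Cfsg.Lie.chevF4.graphExp 2 i0.val (σ i0).val
        rw [e0, show Cfsg.Lie.chevF4.graphExp 2 i0.val i3.val = 2 by decide +kernel, h10, pow_one, h21, h32,
          pow_one]
      · show τ i1 a = τ i3 a ^ Cfsg.Lie.chevF4.graphExp 2 i1.val (σ i1).val
        rw [e1, show Cfsg.Lie.chevF4.graphExp 2 i1.val i2.val = 2 by decide +kernel, h21, h32, pow_one]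
      · show τ i2 a = τ i3 a ^ Cfsg.Lie.chevF4.graphExp 2 i2.val (σ i2).val
        rw [e2, show Cfsg.Lie.chevF4.graphExp 2 i2.val i1.val = 1 by decide +kernel]
        exact h32 a
      · show τ i3 a = τ i3 a ^ Cfsg.Lie.chevF4.graphExp 2 i3.val (σ i3).val
        rw [e3, show Cfsg.Lie.chevF4.graphExp 2 i3.val i0.val = 1 by decide +kernel, pow_one]
  good {σ} := by
    rintro ⟨L, hL, hσ, hc⟩
    simp only [allowF4, List.mem_cons, List.not_mem_nil, or_false] at hL
    rcases hL with rfl | rfl
    · rw [perm_eq_one_of_list (hσ.trans (by decide +kernel))]; exact Φ.graphGood_one (by decide +kernel)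
    · have hchar : ringChar F = 2 := hc.resolve_left (by decide)
      haveI : CharP F 2 := ringChar.of_eq hchar
      haveI : Fact (Nat.Prime 2) := ⟨Nat.prime_two⟩
      refine Φ.graphGood_of_mor hσ (by decide +kernel) adjF4 (morOK_prime F 2 (perfect_finite 2)) checkMorF4 vF4 (by decide +kernel) ?_
      rw [hchar]
      decide +kernel
  sym L hL := by
    simp only [allowF4, List.mem_cons, List.not_mem_nil, or_false] at hL
    rcases hL with rfl | rfl
    · exact sym_of_inverse _ [0, 1, 2, 3] (by decide) (by decide)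
    · exact sym_of_inverse _ [3, 2, 1, 0] (by decide) (by decide)

theorem autType_G2 (Φ : Chev Cfsg.Lie.chevG2) (F : Type*) [Field F] [Finite F] : Φ.AutType F allowG2 where
  rank_pos := by decide
  classify {θ σ c τ} h := by
    have hs := Φ.one_or_of_search symsG2 h
    simp only [List.mem_cons, List.not_mem_nil, or_false] at hs
    rcases hs with hσ | hσ
    · exact ⟨⟨([0, 1], 0), by simp [allowG2], hσ, Or.inl rfl⟩, Φ.classify_cart (by decide) treeG2 hσ (by decide +kernel) h⟩
    · have v : ∀ i : Fin Cfsg.Lie.chevG2.rank, (σ i).val = [1, 0].getD i.val 0 := fun i => by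
        rw [← hσ, permList_getD]
      let i0 : Fin Cfsg.Lie.chevG2.rank := ⟨0, by decide⟩
      let i1 : Fin Cfsg.Lie.chevG2.rank := ⟨1, by decide⟩
      have e0 : σ i0 = i1 := Fin.ext (v i0)
      have e1 : σ i1 = i0 := Fin.ext (v i1)
      have h10 : ∀ a, τ i0 a = τ i1 a ^ 3 := Normal.tau_pow Φ h (i := i1) (j := i0) (by decide +kernel)
        (k := 3) (by rw [e0, e1]; decide +kernel) three_pos
      have hchar : ringChar F = 3 := by
        rcases char_three_or_card_two h10 with hc | ⟨h2, hF⟩
        · exact hc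
        · exact (not_swap_G2 Φ h e0 e1 h2 hF).elim
      refine ⟨⟨([1, 0], 3), by simp [allowG2], hσ, Or.inr hchar⟩, τ i1, fun i a => ?_⟩
      rw [hchar]
      obtain ⟨i, hi⟩ := i
      change i < 2 at hi
      interval_cases i
      · show τ i0 a = τ i1 a ^ Cfsg.Lie.chevG2.graphExp 3 i0.val (σ i0).val
        rw [e0, show Cfsg.Lie.chevG2.graphExp 3 i0.val i1.val = 3 by decide +kernel]
        exact h10 a
      · show τ i1 a = τ i1 a ^ Cfsg.Lie.chevG2.graphExp 3 i1.val (σ i1).val
        rw [e1, show Cfsg.Lie.chevG2.graphExp 3 i1.val i0.val = 1 by decide +kernel, pow_one]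
  good {σ} := by
    rintro ⟨L, hL, hσ, hc⟩
    simp only [allowG2, List.mem_cons, List.not_mem_nil, or_false] at hL
    rcases hL with rfl | rfl
    · rw [perm_eq_one_of_list (hσ.trans (by decide +kernel))]; exact Φ.graphGood_one (by decide +kernel)
    · have hchar : ringChar F = 3 := hc.resolve_left (by decide)
      haveI : CharP F 3 := ringChar.of_eq hchar
      haveI : Fact (Nat.Prime 3) := ⟨Nat.prime_three⟩
      refine Φ.graphGood_of_mor hσ (by decide +kernel) adjG2 (morOK_prime F 3 (perfect_finite 3)) checkMorG2 vG2 (by decide +kernel) ?_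
      rw [hchar]
      decide +kernel
  sym L hL := by
    simp only [allowG2, List.mem_cons, List.not_mem_nil, or_false] at hL
    rcases hL with rfl | rfl
    · exact sym_of_inverse _ [0, 1] (by decide) (by decide)
    · exact sym_of_inverse _ [1, 0] (by decide) (by decide)

end Chev

end CfsgLib.Chev
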