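/-
Diagonal and field automorphisms of a Chevalley group, and the classification of all automorphisms.
-/
import Cfsg.Agent.Lib.Chev.Aut.TypeData
import Cfsg.Agent.Lib.Chev.CharDiag
import Cfsg.Agent.Lib.Chev.FieldFixed
import Cfsg.Agent.Lib.Chev.SimpleGen

namespace CfsgLib.Chev

open Cfsg.Lie Matrix

set_option linter.dupNamespace false
set_option linter.unusedSectionVars false

variable {D : ChevalleyDatum}

namespace Chev

variable (Φ : Chev D) {F : Type*} [Field F]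

theorem torus_conj_mem (c : Fin D.rank → Fˣ) {g : GL D.Idx F} (hg : g ∈ D.group F) :
    Φ.toAlg.torus c * g * (Φ.toAlg.torus c)⁻¹ ∈ D.group F := by
  have : D.group F ≤ (D.group F).comap (MulAut.conj (Φ.toAlg.torus c)).toMonoidHom := by
    nth_rewrite 1 [Φ.toAlg.group_eq]
    rw [Subgroup.closure_le]
    rintro _ ⟨r, t, rfl⟩
    show Φ.toAlg.torus c * Φ.toAlg.xg r t * (Φ.toAlg.torus c)⁻¹ ∈ D.group F
    rw [Φ.toAlg.torus_xg, mul_inv_cancel_right]
    exact Φ.toAlg.xg_mem_group r _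
  exact this hg

/-- Conjugation by a torus element. -/
def torusEquiv (c : Fin D.rank → Fˣ) : ↥(D.group F) ≃* ↥(D.group F) where
  toFun g := ⟨_, Φ.torus_conj_mem c g.2⟩
  invFun g := ⟨_, Φ.torus_conj_mem c⁻¹ g.2⟩
  left_inv g := Subtype.ext (by simp [map_inv, mul_assoc])
  right_inv g := Subtype.ext (by simp [map_inv, mul_assoc])
  map_mul' a b := Subtype.ext (by simp [mul_assoc])

/-- The diagonal automorphisms. -/
def torusAut (F : Type*) [Field F] : (Fin D.rank → Fˣ) →* MulAut ↥(D.group F) where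
  toFun := Φ.torusEquiv
  map_one' := MulEquiv.ext fun g => Subtype.ext (by simp [torusEquiv])
  map_mul' a b := MulEquiv.ext fun g => Subtype.ext (by
    show _ = Φ.toAlg.torus a * (Φ.toAlg.torus b * (g : GL D.Idx F) * (Φ.toAlg.torus b)⁻¹) * (Φ.toAlg.torus a)⁻¹
    simp [torusEquiv, mul_assoc])

theorem torusAut_eg (c : Fin D.rank → Fˣ) (r : Fin D.nroots) (t : F) :
    Φ.torusAut F c (Φ.eg r t) = Φ.eg r ((Φ.toSys.chi c r : F) * t) := by
  refine Subtype.ext ?_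
  show Φ.toAlg.torus c * Φ.toAlg.xg r t * (Φ.toAlg.torus c)⁻¹ = _
  rw [Φ.toAlg.torus_xg, mul_inv_cancel_right]
  rfl

theorem torusAut_p (c : Fin D.rank → Fˣ) (i : Fin D.rank) (t : F) :
    Φ.torusAut F c (Φ.eg (Φ.p i) t) = Φ.eg (Φ.p i) ((c i : F) * t) ∧
      Φ.torusAut F c (Φ.eg (Φ.p i).rev t) = Φ.eg (Φ.p i).rev (((c i)⁻¹ : Fˣ) * t) := by
  constructor
  · rw [Φ.torusAut_eg, Φ.toSys.chi_simple]
  · rw [Φ.torusAut_eg, Φ.toSys.chi_neg, Φ.toSys.chi_simple]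

/-- The map of a field automorphism. -/
def fieldEquiv (τ : RingAut F) : ↥(D.group F) ≃* ↥(D.group F) where
  toFun g := ⟨_, Φ.map_mem_group (τ : F ≃+* F).toRingHom g.2⟩
  invFun g := ⟨_, Φ.map_mem_group (τ : F ≃+* F).symm.toRingHom g.2⟩
  left_inv g := Subtype.ext (Units.ext (by ext i j; simp))
  right_inv g := Subtype.ext (Units.ext (by ext i j; simp))
  map_mul' a b := Subtype.ext (map_mul _ _ _)

/-- The field automorphisms. -/
def autFieldHom (F : Type*) [Field F] : RingAut F →* MulAut ↥(D.group F) where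
  toFun := Φ.fieldEquiv
  map_one' := MulEquiv.ext fun g => Subtype.ext (Units.ext (by ext i j; rfl))
  map_mul' a b := MulEquiv.ext fun g => Subtype.ext (Units.ext (by ext i j; rfl))

theorem fieldHom_eg (τ : RingAut F) (r : Fin D.nroots) (t : F) :
    Φ.autFieldHom F τ (Φ.eg r t) = Φ.eg r (τ t) :=
  Subtype.ext (Φ.map_root_xg (τ : F ≃+* F).toRingHom r t)

theorem aut_ext {α β : ↥(D.group F) ≃* ↥(D.group F)}
    (h : ∀ i t, α (Φ.eg (Φ.p i) t) = β (Φ.eg (Φ.p i) t) ∧ α (Φ.eg (Φ.p i).rev t) = β (Φ.eg (Φ.p i).rev t)) :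
    α = β := by
  have := Φ.hom_ext α.toMonoidHom β.toMonoidHom fun i t g hg => by
    rcases hg with hg | hg
    · rw [Φ.eq_eg_of_simple hg]; exact (h i t).1
    · rw [Φ.eq_eg_of_neg hg]; exact (h i t).2
  exact MulEquiv.toMonoidHom_injective this

theorem fix_torusAut [Finite F] (c : Fin D.rank → Fˣ) : Fix (Φ.torusAut F c) :=
  Φ.fix_of_roots _ fun r t => ⟨r, _, Iff.rfl, congrArg Subtype.val (Φ.torusAut_eg c r t)⟩

theorem fix_fieldHom [Finite F] (τ : RingAut F) : Fix (Φ.autFieldHom F τ) :=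
  Φ.fix_of_roots _ fun r t => ⟨r, _, Iff.rfl, congrArg Subtype.val (Φ.fieldHom_eg τ r t)⟩

include Φ in
theorem isRootCharacter_chi (c : Fin D.rank → Fˣ) :
    D.IsRootCharacter fun r => if h : r < D.nroots then Φ.toSys.chi c ⟨r, h⟩ else 1 := by
  refine ⟨fun r hr => ?_, fun r s k hr hs hk => ?_⟩
  · have hn : D.neg r = (⟨r, hr⟩ : Fin D.nroots).rev.val := Φ.toSys.negIdx_eq ⟨r, hr⟩
    simp only [hn, dif_pos (Fin.isLt _), dif_pos hr, Fin.eta, Φ.toSys.chi_neg]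
  · have he := Φ.toSys.chainEntry_eq ⟨r, hr⟩ ⟨s, hs⟩
    simp only [ChevalleyDatum.chainRoot] at hk
    rw [show D.chainEntry r s = _ from he] at hk
    by_cases hN : Φ.N ⟨r, hr⟩ ⟨s, hs⟩ = 0
    · simp [Tables.entry, Tables.ch, hN] at hk
    · have hk' : k = (Φ.S ⟨r, hr⟩ ⟨s, hs⟩).val := by
        simp [Tables.entry, Tables.ch, hN] at hk
        exact hk.symm
      subst hk'
      simp only [dif_pos hr, dif_pos hs, dif_pos (Fin.isLt _), Fin.eta, Φ.toSys.chi_add c hN]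

theorem isDiagonalAut_torusAut (c : Fin D.rank → Fˣ) : D.IsDiagonalAut (Φ.torusAut F c) := by
  refine ⟨_, Φ.isRootCharacter_chi c, fun g => ?_⟩
  show ((Φ.toAlg.torus c : GL D.Idx F) : Matrix D.Idx D.Idx F) * _ * _ = _
  rw [show (Φ.toAlg.torus c)⁻¹ = Φ.toAlg.torus c⁻¹ from (map_inv _ c).symm, Alg.torus_val, Alg.torus_val,
    charDiag_eq, charDiag_eq, Sys.torusMat, Sys.torusMat]
  congr 1
  · congr 1
    congr 1
    funext x
    rcases x with i | r <;> simp [rootIdx, Sys.chiIdx]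
  · congr 1
    funext x
    rcases x with i | r
    · simp [rootIdx, Sys.chiIdx]
    · simp [rootIdx, Sys.chiIdx, Φ.chi_inv]

theorem eq_torusAut_of_isDiagonal {φ : ↥(D.group F) ≃* ↥(D.group F)} (h : D.IsDiagonalAut φ) :
    ∃ c, φ = Φ.torusAut F c := by
  obtain ⟨χ, hχ, hφ⟩ := h
  refine ⟨fun i => χ (Φ.p i).val, Φ.aut_ext fun i t => ?_⟩
  have key : ∀ r : Fin D.nroots, φ (Φ.eg r t) = Φ.eg r ((χ r.val : F) * t) := fun r => by
    refine Subtype.ext (Units.ext ?_)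
    rw [hφ, show ((Φ.eg r t : GL D.Idx F) : Matrix D.Idx D.Idx F) = D.x F r.val t from (Φ.toAlg.x_val r t).symm,
      Φ.charDiag_X hχ, mul_assoc, charDiag_mul_inv, mul_one, Φ.toAlg.x_val]
    rfl
  constructor
  · rw [key, (Φ.torusAut_p _ i t).1]
  · rw [key, (Φ.torusAut_p _ i t).2]
    have hn := hχ.1 (Φ.p i).val (Φ.p i).isLt
    rw [Φ.neg_rev_val] at hn
    rw [hn]

theorem isFieldAut_fieldHom (τ : RingAut F) : D.IsFieldAut (Φ.autFieldHom F τ) := by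
  refine ⟨τ, fun g r t hr hg => ?_⟩
  rw [show g = Φ.eg ⟨r, hr⟩ t from Subtype.ext ((Φ.toAlg.eq_xg_iff (r := ⟨r, hr⟩)).1 hg), Φ.fieldHom_eg,
    show D.x F r (τ t) = _ from Φ.toAlg.x_val' hr (τ t)]
  rfl

theorem eq_fieldHom_of_isField {φ : ↥(D.group F) ≃* ↥(D.group F)} (h : D.IsFieldAut φ) :
    ∃ τ, φ = Φ.autFieldHom F τ := by
  obtain ⟨τ, hτ⟩ := h
  exact ⟨τ, MulEquiv.ext fun g => Subtype.ext (Φ.fieldAut_apply hτ g)⟩

variable {θ : ↥(D.group F) ≃* ↥(D.group F)} {σ : Equiv.Perm (Fin D.rank)} {c : Fin D.rank → Fˣ}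

/-- A normalised automorphism is diagonal, graph and field. -/
theorem eq_dgf {g : ↥(D.group F) ≃* ↥(D.group F)} {τ0 : RingAut F} {τ : Fin D.rank → F ≃+* F}
    (h : Φ.Normal θ σ c fun i => τ i) (hg : Φ.GraphMap g σ)
    (hτ : ∀ i a, τ i a = τ0 a ^ D.graphExp (ringChar F) i (σ i)) (y : ↥(D.group F)) :
    θ y = Φ.torusAut F (fun j => c (σ.symm j)) (g (Φ.autFieldHom F τ0 y)) := by
  have : θ = (Φ.autFieldHom F τ0).trans (g.trans (Φ.torusAut F fun j => c (σ.symm j))) := by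
    refine Φ.aut_ext fun i t => ⟨?_, ?_⟩
    · simp only [MulEquiv.trans_apply]
      rw [Φ.fieldHom_eg, (hg i _).1, (Φ.torusAut_p _ _ _).1, Equiv.symm_apply_apply, Normal.pos Φ h, hτ]
    · simp only [MulEquiv.trans_apply]
      rw [Φ.fieldHom_eg, (hg i _).2, (Φ.torusAut_p _ _ _).2, Equiv.symm_apply_apply, Normal.neg Φ h, hτ]
  rw [this]
  rfl

theorem exists_decomposition [Finite F] {A : List (List ℕ × ℕ)} (hA : Φ.AutType F A)
    (θ : ↥(D.group F) ≃* ↥(D.group F)) :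
    ∃ (x : ↥(D.group F)) (d g f : ↥(D.group F) ≃* ↥(D.group F)),
      D.IsDiagonalAut d ∧ D.IsGraphAut g ∧ D.IsFieldAut f ∧ ∀ y : ↥(D.group F), θ y = x * d (g (f y)) * x⁻¹ := by
  letI : Fintype F := Fintype.ofFinite F
  obtain ⟨p, hp⟩ := CharP.exists F
  obtain ⟨k, hprime, -⟩ := FiniteField.card F p
  haveI : Fact p.Prime := ⟨hprime⟩
  obtain ⟨x, hx⟩ := Φ.exists_fix p θ
  have hfix : Fix (θ.trans (MulAut.conj x)) := ⟨fun g => (hx g).1, fun g => (hx g).2⟩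
  obtain ⟨σ, c, τ, hn⟩ := Φ.exists_normal hfix
  obtain ⟨hallow, τ0, hτ⟩ := hA.classify hn
  obtain ⟨hsym, g, hg, -⟩ := hA.good hallow
  refine ⟨x⁻¹, _, g, _, Φ.isDiagonalAut_torusAut (fun j => c (σ.symm j)), GraphMap.isGraphAut Φ hg hsym,
    Φ.isFieldAut_fieldHom τ0, fun y => ?_⟩
  rw [← Φ.eq_dgf hn hg hτ y, MulEquiv.trans_apply, MulAut.conj_apply]
  group

end Chev

/-- The seven tabulated types all have classified automorphisms. -/
theorem exists_autType {D : ChevalleyDatum}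
    (hD : D ∈ [Cfsg.Lie.chevG2, Cfsg.Lie.chevB2, Cfsg.Lie.chevD4, Cfsg.Lie.chevF4, Cfsg.Lie.chevE6,
      Cfsg.Lie.chevE7, Cfsg.Lie.chevE8]) (F : Type*) [Field F] [Finite F] :
    ∃ (Φ : Chev D) (A : List (List ℕ × ℕ)), Φ.AutType F A := by
  simp only [List.mem_cons, List.not_mem_nil, or_false] at hD
  rcases hD with rfl | rfl | rfl | rfl | rfl | rfl | rfl
  exacts [⟨chevG2, _, Chev.autType_G2 chevG2 F⟩, ⟨chevB2, _, Chev.autType_B2 chevB2 F⟩,
    ⟨chevD4, _, Chev.autType_D4 chevD4 F⟩, ⟨chevF4, _, Chev.autType_F4 chevF4 F⟩,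
    ⟨chevE6, _, Chev.autType_E6 chevE6 F⟩, ⟨chevE7, _, Chev.autType_E7 chevE7 F⟩,
    ⟨chevE8, _, Chev.autType_E8 chevE8 F⟩]

end CfsgLib.Chev
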