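/-
A graph automorphism of a simply-laced type on all root elements.
-/
import Cfsg.Agent.Lib.Chev.Aut.Sym
import Cfsg.Agent.Lib.Chev.SimpleGen

namespace CfsgLib.Chev

open Cfsg.Lie Matrix

set_option linter.dupNamespace false
set_option linter.unusedSectionVars false

variable {D : ChevalleyDatum}

/-- `permRoot` for a symmetry given as a list. -/
def permRootL (D : ChevalleyDatum) (L : List ℕ) (r : ℕ) : ℕ :=
  ((List.range D.nroots).find? fun s => (List.finRange D.rank).all fun i =>
      (D.coroot.getD s #[]).getD (L.getD i.val 0) 0 == (D.coroot.getD r #[]).getD i.val 0).getD r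

theorem permRoot_eq (π : Equiv.Perm (Fin D.rank)) (r : ℕ) : D.permRoot π r = permRootL D (permList π) r := by
  simp only [ChevalleyDatum.permRoot, permRootL, permList_getD]

/-- The root permutation of a symmetry commutes with the fundamental reflections. -/
def permRootOK (D : ChevalleyDatum) (L : List ℕ) : Bool :=
  (List.range D.rank).all fun i =>
    Nat.beq (permRootL D L (D.simple i)) (D.simple (L.getD i 0)) &&
      (List.range D.nroots).all fun r =>
        Nat.blt (permRootL D L r) D.nroots &&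
          Nat.beq (permRootL D L (D.reflectRoot i r)) (D.reflectRoot (L.getD i 0) (permRootL D L r))

namespace Chev

variable (Φ : Chev D) {F : Type*} [Field F]

theorem graph_roots (π : Equiv.Perm (Fin D.rank)) (hok : permRootOK D (permList π) = true)
    (φ : ↥(D.group F) ≃* ↥(D.group F))
    (hφ : ∀ i t, φ (Φ.eg (Φ.p i) t) = Φ.eg (Φ.p (π i)) t ∧ φ (Φ.eg (Φ.p i).rev t) = Φ.eg (Φ.p (π i)).rev t)
    (r : Fin D.nroots) :
    ∃ ε : F, (ε = 1 ∨ ε = -1) ∧ ∃ s : Fin D.nroots, s.val = D.permRoot π r.val ∧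
      ∀ t, φ (Φ.eg r t) = Φ.eg s (ε * t) := by
  simp only [permRootOK, List.all_eq_true, List.mem_range, Bool.and_eq_true, Nat.blt_eq, Nat.beq_eq] at hok
  induction r using Φ.root_induction with
  | hp i =>
    refine ⟨1, Or.inl rfl, Φ.p (π i), ?_, fun t => by rw [(hφ i t).1, one_mul]⟩
    have := (hok i.val i.isLt).1
    rw [permRoot_eq, ← Φ.simple_val, ← Φ.simple_val, this, permList_getD]
  | hstep i r ih =>
    obtain ⟨ε, hε, s, hs, hst⟩ := ih
    refine ⟨(Φ.eta (π i) s : F) * ε * (Φ.eta i r : F), ?_, Φ.refl (π i) s, ?_, fun t => ?_⟩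
    · rcases hε with e | e <;> rcases Φ.eta_unit (π i) s with a | a <;> rcases Φ.eta_unit i r with b | b <;>
        simp [e, a, b]
    · have := ((hok i.val i.isLt).2 r.val r.isLt).2
      rw [permRoot_eq, ← Φ.reflectRoot_eq, ← Φ.reflectRoot_eq, this, permList_getD, hs, permRoot_eq]
    · let n : Fin D.rank → ↥(D.group F) := fun j => Φ.eg (Φ.p j) 1 * Φ.eg (Φ.p j).rev (-1) * Φ.eg (Φ.p j) 1
      have hnv : ∀ j, ((n j : ↥(D.group F)) : GL D.Idx F) = Φ.nw (Φ.p j) 1 := fun j => by
        show Φ.toAlg.xg _ 1 * Φ.toAlg.xg _ (-1) * Φ.toAlg.xg _ 1 = _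
        simp only [nw, Units.val_one, _root_.inv_one]
      have hn : φ (n i) = n (π i) := by
        show φ (_ * _ * _) = _
        rw [map_mul, map_mul, (hφ i _).1, (hφ i _).2]
      have hc : (Φ.eta i r : F) * (Φ.eta i r : F) = 1 := by
        rcases Φ.eta_unit i r with e | e <;> simp [e]
      have hconj : ∀ j q u, n j * Φ.eg q u * (n j)⁻¹ = Φ.eg (Φ.refl j q) ((Φ.eta j q : F) * u) := fun j q u =>
        Subtype.ext (by
          rw [Subgroup.coe_mul, Subgroup.coe_mul, Subgroup.coe_inv, hnv]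
          show Φ.nw _ 1 * Φ.toAlg.xg q u * _ = _
          rw [Φ.nw_conj_xg, mul_inv_cancel_right]
          rfl)
      have e1 : Φ.eg (Φ.refl i r) t = n i * Φ.eg r ((Φ.eta i r : F) * t) * (n i)⁻¹ := by
        rw [hconj, ← mul_assoc, hc, one_mul]
      rw [e1, map_mul, map_mul, map_inv, hn, hst, hconj, ← mul_assoc, ← mul_assoc]

end Chev

end CfsgLib.Chev
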