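/-
The outer automorphism group of a finite Chevalley group: diagonal, field and graph classes.
-/
import Cfsg.Agent.Lib.Chev.Aut.Basic
import Cfsg.Agent.Lib.Chev.Aut.FieldCyclic
import Cfsg.Prelude.Def_KGroupFacts
import Mathlib.GroupTheory.QuotientGroup.Basic
import Mathlib.GroupTheory.Index

namespace CfsgLib.Chev

open Cfsg.Lie Matrix

set_option linter.dupNamespace false
set_option linter.unusedSectionVars false

variable {D : ChevalleyDatum}

namespace Chev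

variable (Φ : Chev D) {F : Type*} [Field F]

/-- `θ` sends each fundamental root subgroup to the one given by `σ`. -/
def PermAut (θ : ↥(D.group F) ≃* ↥(D.group F)) (σ : Equiv.Perm (Fin D.rank)) : Prop :=
  ∀ i t, ∃ u, θ (Φ.eg (Φ.p i) t) = Φ.eg (Φ.p (σ i)) u

theorem PermAut.unique {θ : ↥(D.group F) ≃* ↥(D.group F)} {σ σ' : Equiv.Perm (Fin D.rank)}
    (h : Φ.PermAut θ σ) (h' : Φ.PermAut θ σ') : σ = σ' := by
  refine Equiv.ext fun i => ?_
  obtain ⟨u, hu⟩ := h i 1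
  obtain ⟨u', hu'⟩ := h' i 1
  refine Φ.p_inj (Φ.eg_root (a := u) (b := u') ?_ (hu.symm.trans hu'))
  rintro rfl
  rw [show Φ.eg (Φ.p (σ i)) (0 : F) = 1 from Φ.eg_eq_one_iff.2 rfl] at hu
  exact one_ne_zero (Φ.eg_eq_one_iff.1 (θ.map_eq_one_iff.1 hu))

theorem Normal.permAut {θ : ↥(D.group F) ≃* ↥(D.group F)} {σ : Equiv.Perm (Fin D.rank)} {c : Fin D.rank → Fˣ}
    {τ : Fin D.rank → F ≃+* F} (h : Φ.Normal θ σ c fun i => τ i) : Φ.PermAut θ σ :=
  fun i t => ⟨_, Normal.pos Φ h i t⟩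

/-- The automorphisms fixing `U` and `V`. -/
def fixGroup (F : Type*) [Field F] : Subgroup (MulAut ↥(D.group F)) where
  carrier := {θ | Fix θ}
  one_mem' := ⟨fun _ => Iff.rfl, fun _ => Iff.rfl⟩
  mul_mem' := fun {a b} ha hb => ⟨fun g => (hb.u g).trans (ha.u (b g)), fun g => (hb.v g).trans (ha.v (b g))⟩
  inv_mem' := fun {_a} ha => ha.symm

/-- The permutation of the nodes of an automorphism fixing `U` and `V`. -/
noncomputable def permHom (F : Type*) [Field F] : ↥(fixGroup (D := D) F) →* Equiv.Perm (Fin D.rank) :=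
  MonoidHom.mk' (fun θ => Classical.choose (Fix.exists_perm Φ θ.2)) fun a b => by
    have key : ∀ θ : ↥(fixGroup (D := D) F), Φ.PermAut θ.1 (Classical.choose (Fix.exists_perm Φ θ.2)) :=
      fun θ i t => by
        obtain ⟨f, g, hf, -⟩ := Classical.choose_spec (Fix.exists_perm Φ θ.2) i
        exact ⟨f t, hf t⟩
    refine PermAut.unique Φ (key (a * b)) fun i t => ?_
    obtain ⟨u, hu⟩ := key b i t
    obtain ⟨v, hv⟩ := key a (Classical.choose (Fix.exists_perm Φ b.2) i) u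
    exact ⟨v, by show a.1 (b.1 _) = _; rw [hu, hv]; rfl⟩

theorem permHom_spec (θ : ↥(fixGroup (D := D) F)) : Φ.PermAut θ.1 (Φ.permHom F θ) := fun i t => by
  obtain ⟨f, g, hf, -⟩ := Classical.choose_spec (Fix.exists_perm Φ θ.2) i
  exact ⟨f t, hf t⟩

/-- The class of an automorphism. -/
def cls (F : Type*) [Field F] : MulAut ↥(D.group F) →* Cfsg.Out ↥(D.group F) :=
  QuotientGroup.mk' _

theorem cls_eq_one_iff {θ : MulAut ↥(D.group F)} :
    cls (D := D) F θ = 1 ↔ ∃ x, θ = MulAut.conj x := by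
  show (QuotientGroup.mk θ : Cfsg.Out ↥(D.group F)) = 1 ↔ _
  rw [QuotientGroup.eq_one_iff, MonoidHom.mem_range]
  exact ⟨fun ⟨x, h⟩ => ⟨x, h.symm⟩, fun ⟨x, h⟩ => ⟨x, h.symm⟩⟩

variable [Finite F]

theorem conj_fix {x : ↥(D.group F)} (h : Fix (MulAut.conj x)) :
    ∃ e, MulAut.conj x = Φ.torusAut F (Φ.coHom F e) := by
  have hH : (x : GL D.Idx F) ∈ D.diagonalSubgroup F := Φ.mem_H_of_normalizes x.2
    (fun u hu => (h.u ⟨u, Φ.B_le_group (U_le_B hu)⟩).1 hu)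
    (fun v hv => (h.v ⟨v, by rw [← Φ.toAlg.posUnipotent_sup_negUnipotent]; exact Subgroup.mem_sup_right hv⟩).1 hv)
  rw [Φ.diagonalSubgroup_eq] at hH
  obtain ⟨e, he⟩ := hH
  refine ⟨e, MulEquiv.ext fun g => Subtype.ext ?_⟩
  show (x : GL D.Idx F) * g * (x : GL D.Idx F)⁻¹ = Φ.toAlg.torus (Φ.coHom F e) * g * (Φ.toAlg.torus (Φ.coHom F e))⁻¹
  rw [← he]
  rfl

theorem cls_torus_coHom (e : Fin D.rank → Fˣ) : cls F (Φ.torusAut F (Φ.coHom F e)) = 1 := by
  have hH : Φ.toAlg.torus (Φ.coHom F e) ∈ D.diagonalSubgroup F := by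
    rw [Φ.diagonalSubgroup_eq]; exact ⟨e, rfl⟩
  exact cls_eq_one_iff.2 ⟨⟨_, Φ.B_le_group (H_le_B hH)⟩, MulEquiv.ext fun g => Subtype.ext rfl⟩

/-- The class map on automorphisms fixing `U` and `V`. -/
def fixCls (F : Type*) [Field F] : ↥(fixGroup (D := D) F) →* Cfsg.Out ↥(D.group F) :=
  (cls F).comp (fixGroup (D := D) F).subtype

include Φ in
theorem fixCls_surjective : Function.Surjective (fixCls (D := D) F) := by
  letI : Fintype F := Fintype.ofFinite F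
  obtain ⟨p, hp⟩ := CharP.exists F
  obtain ⟨k, hprime, -⟩ := FiniteField.card F p
  haveI : Fact p.Prime := ⟨hprime⟩
  intro q
  obtain ⟨θ, rfl⟩ := QuotientGroup.mk_surjective q
  obtain ⟨x, hx⟩ := Φ.exists_fix p θ
  refine ⟨⟨MulAut.conj x * θ, ⟨fun g => (hx g).1, fun g => (hx g).2⟩⟩, ?_⟩
  show cls F (MulAut.conj x * θ) = _
  rw [map_mul, cls_eq_one_iff.2 ⟨x, rfl⟩, one_mul]
  rfl

theorem ker_fixCls_le : (fixCls (D := D) F).ker ≤ (Φ.permHom F).ker := by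
  intro θ hθ
  obtain ⟨x, hx⟩ := cls_eq_one_iff.1 hθ
  have hx' : θ.1 = MulAut.conj x := hx
  obtain ⟨e, he⟩ := Φ.conj_fix (x := x) (hx' ▸ θ.2)
  rw [MonoidHom.mem_ker]
  refine PermAut.unique Φ (Φ.permHom_spec θ) fun i t => ⟨(Φ.coHom F e i : F) * t, ?_⟩
  rw [hx', he]
  exact (Φ.torusAut_p _ i t).1

/-- The permutation of the nodes of an outer class. -/
noncomputable def graphHom (F : Type*) [Field F] [Finite F] : Cfsg.Out ↥(D.group F) →* Equiv.Perm (Fin D.rank) :=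
  (fixCls (D := D) F).liftOfSurjective (fixCls_surjective Φ) ⟨Φ.permHom F, ker_fixCls_le Φ⟩

theorem graphHom_fix (θ : ↥(fixGroup (D := D) F)) : Φ.graphHom F (fixCls F θ) = Φ.permHom F θ :=
  MonoidHom.liftOfRightInverse_comp_apply _ _ _ ⟨Φ.permHom F, ker_fixCls_le Φ⟩ θ

theorem graphHom_of_perm {θ : MulAut ↥(D.group F)} (hθ : Fix θ) {σ : Equiv.Perm (Fin D.rank)}
    (h : Φ.PermAut θ σ) : Φ.graphHom F (cls F θ) = σ :=
  (Φ.graphHom_fix ⟨θ, hθ⟩).trans (PermAut.unique Φ (Φ.permHom_spec ⟨θ, hθ⟩) h)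

theorem graphHom_torus (c : Fin D.rank → Fˣ) : Φ.graphHom F (cls F (Φ.torusAut F c)) = 1 :=
  Φ.graphHom_of_perm (Φ.fix_torusAut c) fun i t => ⟨_, (Φ.torusAut_p c i t).1⟩

theorem graphHom_field (τ : RingAut F) : Φ.graphHom F (cls F (Φ.autFieldHom F τ)) = 1 :=
  Φ.graphHom_of_perm (Φ.fix_fieldHom τ) fun i t => ⟨_, Φ.fieldHom_eg τ _ t⟩

theorem graphExp_self (c : ℕ) (i : Fin D.rank) : D.graphExp c i i = 1 := by
  simp [ChevalleyDatum.graphExp]

variable {A : List (List ℕ × ℕ)} (hA : Φ.AutType F A)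

include hA in
theorem mem_range_graphHom {σ : Equiv.Perm (Fin D.rank)} : σ ∈ (Φ.graphHom F).range ↔ Allowed F A σ := by
  constructor
  · rintro ⟨q, rfl⟩
    obtain ⟨θ, rfl⟩ := fixCls_surjective Φ q
    obtain ⟨σ, c, τ, hn⟩ := Φ.exists_normal θ.2
    rw [show Φ.graphHom F (fixCls F θ) = σ from Φ.graphHom_of_perm θ.2 (Normal.permAut Φ hn)]
    exact (hA.classify hn).1
  · intro h
    obtain ⟨-, g, hg, hfix⟩ := hA.good h
    exact ⟨cls F g, Φ.graphHom_of_perm hfix fun i t => ⟨_, (hg i t).1⟩⟩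

/-- Diagonal classes. -/
def diagCls (F : Type*) [Field F] : (Fin D.rank → Fˣ) →* Cfsg.Out ↥(D.group F) :=
  (cls F).comp (Φ.torusAut F)

/-- Field classes. -/
def fieldCls (F : Type*) [Field F] : RingAut F →* Cfsg.Out ↥(D.group F) :=
  (cls F).comp (Φ.autFieldHom F)

include hA in
theorem exists_of_ker {q : Cfsg.Out ↥(D.group F)} (hq : Φ.graphHom F q = 1) :
    ∃ c τ, Φ.diagCls F c * Φ.fieldCls F τ = q := by
  obtain ⟨θ, rfl⟩ := fixCls_surjective Φ q
  obtain ⟨σ, c, τ, hn⟩ := Φ.exists_normal θ.2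
  obtain rfl : σ = 1 := (Φ.graphHom_of_perm θ.2 (Normal.permAut Φ hn)).symm.trans hq
  obtain ⟨-, τ0, hτ⟩ := hA.classify hn
  refine ⟨c, τ0, ?_⟩
  show cls F (Φ.torusAut F c) * cls F (Φ.autFieldHom F τ0) = cls F θ.1
  rw [← map_mul]
  congr 1
  refine MulEquiv.ext fun y => ?_
  exact (Φ.eq_dgf hn (Φ.graphMap_refl fun c i => graphExp_self c i) hτ y).symm

theorem eq_of_cls {c : Fin D.rank → Fˣ} {τ : RingAut F} (h : Φ.diagCls F c * Φ.fieldCls F τ = 1) :
    c ∈ (Φ.coHom F).range ∧ (0 < D.rank → τ = 1) := by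
  obtain ⟨x, hx⟩ := cls_eq_one_iff.1 ((map_mul (cls (D := D) F) (Φ.torusAut F c) (Φ.autFieldHom F τ)).trans h)
  have hfix : Fix (MulAut.conj x) := by
    rw [← hx]
    exact (fixGroup (D := D) F).mul_mem (Φ.fix_torusAut c) (Φ.fix_fieldHom τ)
  obtain ⟨e, he⟩ := Φ.conj_fix hfix
  rw [he] at hx
  have key : ∀ i t, (c i : F) * τ t = (Φ.coHom F e i : F) * t := fun i t => by
    have h1 := DFunLike.congr_fun hx (Φ.eg (Φ.p i) t)
    rw [MulAut.mul_apply, Φ.fieldHom_eg, (Φ.torusAut_p c i _).1, (Φ.torusAut_p _ i _).1] at h1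
    exact Φ.eg_inj h1
  have hc : ∀ i, c i = Φ.coHom F e i := fun i => Units.ext (by simpa using key i 1)
  refine ⟨⟨e, funext fun i => (hc i).symm⟩, fun hr => RingEquiv.ext fun t => ?_⟩
  have := key ⟨0, hr⟩ t
  rw [hc] at this
  exact mul_left_cancel₀ (Units.ne_zero _) this

include hA in
theorem card_out (hrank : 0 < D.rank) :
    Nat.card (Cfsg.Out ↥(D.group F)) =
      (Φ.coHom F).range.index * Nat.card (RingAut F) * Nat.card (Φ.graphHom F).range := by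
  set R := (Φ.coHom F).range
  have hR : R ≤ (Φ.diagCls F).ker := by
    rintro _ ⟨e, rfl⟩
    exact Φ.cls_torus_coHom e
  let dbar : (Fin D.rank → Fˣ) ⧸ R →* Cfsg.Out ↥(D.group F) := QuotientGroup.lift R (Φ.diagCls F) hR
  let Ψ : ((Fin D.rank → Fˣ) ⧸ R) × RingAut F → (Φ.graphHom F).ker := fun x =>
    ⟨dbar x.1 * Φ.fieldCls F x.2, by
      obtain ⟨c, hc⟩ := QuotientGroup.mk_surjective x.1
      rw [MonoidHom.mem_ker, map_mul, ← hc]
      show Φ.graphHom F (cls F (Φ.torusAut F c)) * Φ.graphHom F (cls F (Φ.autFieldHom F x.2)) = 1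
      rw [Φ.graphHom_torus, Φ.graphHom_field, one_mul]⟩
  have hΨ : Function.Bijective Ψ := by
    constructor
    · rintro ⟨q, τ⟩ ⟨q', τ'⟩ he
      have he' : dbar q * Φ.fieldCls F τ = dbar q' * Φ.fieldCls F τ' := congrArg Subtype.val he
      obtain ⟨d, hd⟩ := QuotientGroup.mk_surjective (q'⁻¹ * q)
      have h1 : Φ.diagCls F d * Φ.fieldCls F (τ * τ'⁻¹) = 1 := by
        rw [show Φ.diagCls F d = dbar (q'⁻¹ * q) by rw [← hd]; rfl, map_mul, map_mul, map_inv, map_inv,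
          mul_assoc, ← mul_assoc (dbar q), he']
        group
      obtain ⟨h2, h3⟩ := Φ.eq_of_cls h1
      have h4 : q'⁻¹ * q = 1 := by rw [← hd]; exact (QuotientGroup.eq_one_iff _).2 h2
      rw [inv_mul_eq_one] at h4
      exact Prod.ext h4.symm (mul_inv_eq_one.1 (h3 hrank))
    · rintro ⟨q, hq⟩
      obtain ⟨c, τ, h⟩ := Φ.exists_of_ker hA hq
      exact ⟨(QuotientGroup.mk c, τ), Subtype.ext h⟩
  rw [← (Φ.graphHom F).ker.card_mul_index, Subgroup.index_ker, ← Nat.card_eq_of_bijective Ψ hΨ, Nat.card_prod,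
    Subgroup.index]

include hA in
theorem card_range :
    Nat.card (Φ.graphHom F).range =
      ((A.filter fun L => L.2 == 0 || L.2 == ringChar F).map Prod.fst).toFinset.card := by
  set T := ((A.filter fun L => L.2 == 0 || L.2 == ringChar F).map Prod.fst).toFinset with hT
  have hinj : Function.Injective (permList (D := D)) := fun a b e =>
    Equiv.ext fun i => Fin.ext (by rw [← permList_getD a i, e, permList_getD])
  have hmem : ∀ σ, σ ∈ (Φ.graphHom F).range ↔ permList σ ∈ T := fun σ => by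
    rw [Φ.mem_range_graphHom hA, hT]
    simp only [List.mem_toFinset, List.mem_map, List.mem_filter, Bool.or_eq_true, beq_iff_eq]
    constructor
    · rintro ⟨L, hL, hσ, h | h⟩
      · exact ⟨L, ⟨hL, Or.inl h⟩, hσ.symm⟩
      · exact ⟨L, ⟨hL, Or.inr h.symm⟩, hσ.symm⟩
    · rintro ⟨L, ⟨hL, h | h⟩, hσ⟩
      · exact ⟨L, hL, hσ.symm, Or.inl h⟩
      · exact ⟨L, hL, hσ.symm, Or.inr h.symm⟩
  rw [← Nat.card_eq_finsetCard T]
  refine Nat.card_eq_of_bijective (fun σ : (Φ.graphHom F).range => (⟨permList σ.1, (hmem _).1 σ.2⟩ : ↥T))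
    ⟨fun a b e => Subtype.ext (hinj (congrArg Subtype.val e)), fun L => ?_⟩
  have hL := L.2
  simp only [hT, List.mem_toFinset, List.mem_map, List.mem_filter] at hL
  obtain ⟨L', ⟨hL', -⟩, hfst⟩ := hL
  obtain ⟨σ, hσ⟩ := hA.sym L' hL'
  have he : permList σ = L.1 := hσ.trans hfst
  exact ⟨⟨σ, (hmem σ).2 (he ▸ L.2)⟩, Subtype.ext he⟩

theorem closure_diag (F : Type*) [Field F] :
    (Subgroup.closure {φ : MulAut ↥(D.group F) | D.IsDiagonalAut φ}).map (QuotientGroup.mk' (Cfsg.Inn ↥(D.group F))) =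
      (Φ.diagCls F).range := by
  rw [show {φ : MulAut ↥(D.group F) | D.IsDiagonalAut φ} = ((Φ.torusAut F).range : Set (MulAut ↥(D.group F))) by
    ext φ
    exact ⟨fun h => let ⟨c, hc⟩ := Φ.eq_torusAut_of_isDiagonal h; ⟨c, hc.symm⟩,
      fun ⟨c, hc⟩ => hc ▸ Φ.isDiagonalAut_torusAut c⟩, Subgroup.closure_eq]
  rw [diagCls, MonoidHom.range_comp]
  rfl

theorem closure_field (F : Type*) [Field F] :
    (Subgroup.closure {φ : MulAut ↥(D.group F) | D.IsFieldAut φ}).map (QuotientGroup.mk' (Cfsg.Inn ↥(D.group F))) =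
      (Φ.fieldCls F).range := by
  rw [show {φ : MulAut ↥(D.group F) | D.IsFieldAut φ} = ((Φ.autFieldHom F).range : Set (MulAut ↥(D.group F))) by
    ext φ
    exact ⟨fun h => let ⟨c, hc⟩ := Φ.eq_fieldHom_of_isField h; ⟨c, hc.symm⟩,
      fun ⟨c, hc⟩ => hc ▸ Φ.isFieldAut_fieldHom c⟩, Subgroup.closure_eq]
  rw [fieldCls, MonoidHom.range_comp]
  rfl

theorem diag_normal : (Φ.diagCls F).range.Normal := by
  constructor
  rintro _ ⟨d, rfl⟩ q
  obtain ⟨θ, rfl⟩ := fixCls_surjective Φ q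
  obtain ⟨σ, c, τ, hn⟩ := Φ.exists_normal θ.2
  set d' : Fin D.rank → Fˣ := fun j => Units.map (τ (σ.symm j) : F →* F) (d (σ.symm j))
  refine ⟨d', ?_⟩
  show cls F (Φ.torusAut F d') = cls F θ.1 * cls F (Φ.torusAut F d) * (cls F θ.1)⁻¹
  rw [eq_mul_inv_iff_mul_eq, ← map_mul, ← map_mul]
  congr 1
  refine Φ.aut_ext fun i t => ⟨?_, ?_⟩
  · rw [MulAut.mul_apply, MulAut.mul_apply, Normal.pos Φ hn, (Φ.torusAut_p _ _ _).1, (Φ.torusAut_p _ _ _).1,
      Normal.pos Φ hn, map_mul]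
    simp only [d', Equiv.symm_apply_apply, Units.coe_map, MonoidHom.coe_coe]
    congr 1
    ring
  · rw [MulAut.mul_apply, MulAut.mul_apply, Normal.neg Φ hn, (Φ.torusAut_p _ _ _).2, (Φ.torusAut_p _ _ _).2,
      Normal.neg Φ hn, map_mul]
    simp only [d', Equiv.symm_apply_apply, Units.val_inv_eq_inv_val, Units.coe_map, MonoidHom.coe_coe, map_inv₀]
    congr 1
    ring

include hA in
theorem sup_eq_ker : (Φ.diagCls F).range ⊔ (Φ.fieldCls F).range = (Φ.graphHom F).ker := by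
  refine le_antisymm (sup_le ?_ ?_) fun q hq => ?_
  · rintro _ ⟨c, rfl⟩; exact Φ.graphHom_torus c
  · rintro _ ⟨c, rfl⟩; exact Φ.graphHom_field c
  · obtain ⟨c, τ, rfl⟩ := Φ.exists_of_ker hA hq
    exact mul_mem (Subgroup.mem_sup_left ⟨c, rfl⟩) (Subgroup.mem_sup_right ⟨τ, rfl⟩)

end Chev

end CfsgLib.Chev
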