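/-
The order and the structure of the outer automorphism groups of the tabulated Chevalley groups.
-/
import Cfsg.Agent.Lib.Chev.Aut.Out
import Cfsg.Agent.Lib.Chev.OrderG2
import Cfsg.Agent.Lib.Chev.OrderF4
import Cfsg.Agent.Lib.Chev.OrderE6
import Cfsg.Agent.Lib.Chev.OrderE7
import Cfsg.Agent.Lib.Chev.OrderE8

namespace CfsgLib.Chev

open Cfsg.Lie Matrix

set_option linter.dupNamespace false
set_option linter.unusedSectionVars false
set_option maxRecDepth 100000

variable {D : ChevalleyDatum}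

namespace Chev

variable (Φ : Chev D) {F : Type*} [Field F] [Finite F]

theorem index_coHom {g : ℕ} (hg : g * Nat.card (D.diagonalSubgroup F) = (Nat.card F - 1) ^ D.rank) :
    (Φ.coHom F).range.index = g := by
  letI : Fintype F := Fintype.ofFinite F
  have hH : Nat.card (D.diagonalSubgroup F) = Nat.card (Φ.coHom F).range := by
    rw [Φ.diagonalSubgroup_eq, MonoidHom.range_comp, Subgroup.card_map_of_injective Φ.torus_injective]
  have h := (Φ.coHom F).range.card_mul_index
  rw [Nat.card_fun, Nat.card_units, Nat.card_fin, ← hg, hH, mul_comm g] at h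
  exact Nat.eq_of_mul_eq_mul_left Nat.card_pos h

theorem card_out_formula {A : List (List ℕ × ℕ)} (hA : Φ.AutType F A) {g : ℕ}
    (hg : g * Nat.card (D.diagonalSubgroup F) = (Nat.card F - 1) ^ D.rank) (p f : ℕ) [Fact p.Prime] [CharP F p]
    (hF : Nat.card F = p ^ f) :
    Nat.card (Cfsg.Out ↥(D.group F)) =
      g * f * ((A.filter fun L => L.2 == 0 || L.2 == p).map Prod.fst).toFinset.card := by
  rw [Φ.card_out hA hA.rank_pos, Φ.index_coHom hg, (ringAut_cyclic_card p hF).2, Φ.card_range hA, ringChar.eq F p]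

end Chev

theorem out_G2 {F : Type*} [Field F] [Finite F] (p f : ℕ) [Fact p.Prime] [CharP F p] (hF : Nat.card F = p ^ f) :
    Nat.card (Cfsg.Out ↥(Cfsg.Lie.chevG2.group F)) = if p = 3 then 2 * f else f := by
  have hg : 1 * Nat.card (Cfsg.Lie.chevG2.diagonalSubgroup F) = (Nat.card F - 1) ^ 2 := by
    have := cardHG2 chevG2 F
    simpa [Fin.prod_univ_two] using this
  rw [chevG2.card_out_formula (Chev.autType_G2 chevG2 F) hg p f hF]
  by_cases h : p = 3
  · subst h
    rw [if_pos rfl, one_mul, show ((allowG2.filter fun L => L.2 == 0 || L.2 == 3).map Prod.fst).toFinset.card = 2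
      by decide, mul_comm]
  · rw [if_neg h, one_mul]
    simp [allowG2, List.filter_cons, (beq_eq_false_iff_ne).2 (Ne.symm h)]

theorem out_F4 {F : Type*} [Field F] [Finite F] (p f : ℕ) [Fact p.Prime] [CharP F p] (hF : Nat.card F = p ^ f) :
    Nat.card (Cfsg.Out ↥(Cfsg.Lie.chevF4.group F)) = Nat.gcd 2 p * f := by
  have hg : 1 * Nat.card (Cfsg.Lie.chevF4.diagonalSubgroup F) = (Nat.card F - 1) ^ 4 := by
    have := cardHF4 chevF4 F
    simpa [Fin.prod_univ_four] using this
  rw [chevF4.card_out_formula (Chev.autType_F4 chevF4 F) hg p f hF]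
  by_cases h : p = 2
  · subst h
    rw [one_mul, show ((allowF4.filter fun L => L.2 == 0 || L.2 == 2).map Prod.fst).toFinset.card = 2 by decide,
      Nat.gcd_self, mul_comm]
  · rw [show Nat.gcd 2 p = 1 from (Nat.coprime_primes Nat.prime_two (Fact.out : p.Prime)).2 (Ne.symm h), one_mul]
    simp [allowF4, List.filter_cons, (beq_eq_false_iff_ne).2 (Ne.symm h)]

theorem out_E6 {F : Type*} [Field F] [Finite F] (p f : ℕ) [Fact p.Prime] [CharP F p] (hF : Nat.card F = p ^ f) :
    Nat.card (Cfsg.Out ↥(Cfsg.Lie.chevE6.group F)) = 2 * Nat.gcd 3 (p ^ f - 1) * f := by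
  have hg : Nat.gcd 3 (p ^ f - 1) * Nat.card (Cfsg.Lie.chevE6.diagonalSubgroup F) = (Nat.card F - 1) ^ 6 := by
    have := cardHE6 chevE6 F
    simp [Fin.prod_univ_six] at this
    rw [← hF, Nat.gcd_comm]
    exact this
  rw [chevE6.card_out_formula (Chev.autType_E6 chevE6 F) hg p f hF]
  rw [show ((allowE6.filter fun L => L.2 == 0 || L.2 == p).map Prod.fst).toFinset.card = 2 by
    simp [allowE6, List.filter_cons]]
  ring

theorem out_E7 {F : Type*} [Field F] [Finite F] (p f : ℕ) [Fact p.Prime] [CharP F p] (hF : Nat.card F = p ^ f) :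
    Nat.card (Cfsg.Out ↥(Cfsg.Lie.chevE7.group F)) = Nat.gcd 2 (p ^ f - 1) * f := by
  have hg : Nat.gcd 2 (p ^ f - 1) * Nat.card (Cfsg.Lie.chevE7.diagonalSubgroup F) = (Nat.card F - 1) ^ 7 := by
    have := cardHE7 chevE7 F
    simp [Fin.prod_univ_seven] at this
    rw [← hF, Nat.gcd_comm]
    exact this
  rw [chevE7.card_out_formula (Chev.autType_E7 chevE7 F) hg p f hF]
  simp [allowE7, List.filter_cons]

theorem out_E8 {F : Type*} [Field F] [Finite F] (p f : ℕ) [Fact p.Prime] [CharP F p] (hF : Nat.card F = p ^ f) :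
    Nat.card (Cfsg.Out ↥(Cfsg.Lie.chevE8.group F)) = f := by
  have hg : 1 * Nat.card (Cfsg.Lie.chevE8.diagonalSubgroup F) = (Nat.card F - 1) ^ 8 := by
    have := cardHE8 chevE8 F
    simpa [Fin.prod_univ_eight] using this
  rw [chevE8.card_out_formula (Chev.autType_E8 chevE8 F) hg p f hF]
  simp [allowE8, List.filter_cons]

/-- The index is one, two, or six with the nonabelian quotient. -/
theorem range_cases {D : ChevalleyDatum}
    (hD : D ∈ [Cfsg.Lie.chevG2, Cfsg.Lie.chevB2, Cfsg.Lie.chevD4, Cfsg.Lie.chevF4, Cfsg.Lie.chevE6,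
      Cfsg.Lie.chevE7, Cfsg.Lie.chevE8]) (F : Type*) [Field F] [Finite F] :
    ∃ (Φ : Chev D) (A : List (List ℕ × ℕ)), Φ.AutType F A ∧
      (((A.filter fun L => L.2 == 0 || L.2 == ringChar F).map Prod.fst).toFinset.card ≤ 2 ∨
        ((A.filter fun L => L.2 == 0 || L.2 == ringChar F).map Prod.fst).toFinset.card = 6 ∧
          ∃ a b : Equiv.Perm (Fin D.rank), Chev.Allowed F A a ∧ Chev.Allowed F A b ∧ a * b ≠ b * a) := by
  have two : ∀ a b : List ℕ × ℕ, (([a, b].filter fun L => L.2 == 0 || L.2 == ringChar F).map Prod.fst).toFinset.card ≤ 2 :=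
    fun a b => (List.toFinset_card_le _).trans (by
      rw [List.length_map]; exact (List.length_filter_le _ _).trans (by simp))
  have one : ∀ a : List ℕ × ℕ, (([a].filter fun L => L.2 == 0 || L.2 == ringChar F).map Prod.fst).toFinset.card ≤ 2 :=
    fun a => (List.toFinset_card_le _).trans (by
      rw [List.length_map]; exact (List.length_filter_le _ _).trans (by simp))
  simp only [List.mem_cons, List.not_mem_nil, or_false] at hD
  rcases hD with rfl | rfl | rfl | rfl | rfl | rfl | rfl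
  · exact ⟨chevG2, _, Chev.autType_G2 chevG2 F, Or.inl (two _ _)⟩
  · exact ⟨chevB2, _, Chev.autType_B2 chevB2 F, Or.inl (two _ _)⟩
  · refine ⟨chevD4, _, Chev.autType_D4 chevD4 F, Or.inr ⟨by simp [allowD4, List.filter_cons], ?_⟩⟩
    obtain ⟨a, ha⟩ := (Chev.autType_D4 chevD4 F).sym ([0, 1, 3, 2], 0) (by simp [allowD4])
    obtain ⟨b, hb⟩ := (Chev.autType_D4 chevD4 F).sym ([2, 1, 0, 3], 0) (by simp [allowD4])
    refine ⟨a, b, ⟨_, by simp [allowD4], ha, Or.inl rfl⟩, ⟨_, by simp [allowD4], hb, Or.inl rfl⟩, fun h => ?_⟩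
    have v : ∀ i : Fin Cfsg.Lie.chevD4.rank,
        (a i).val = [0, 1, 3, 2].getD i.val 0 ∧ (b i).val = [2, 1, 0, 3].getD i.val 0 := fun i =>
      ⟨by rw [show [0, 1, 3, 2] = permList a from ha.symm, permList_getD],
        by rw [show [2, 1, 0, 3] = permList b from hb.symm, permList_getD]⟩
    have h0 := congrArg (fun σ : Equiv.Perm (Fin Cfsg.Lie.chevD4.rank) => (σ ⟨0, by decide⟩).val) h
    simp only [Equiv.Perm.mul_apply] at h0
    rw [(v _).1, (v _).2] at h0
    rw [(v _).2, (v _).1] at h0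
    simp at h0
  · exact ⟨chevF4, _, Chev.autType_F4 chevF4 F, Or.inl (two _ _)⟩
  · exact ⟨chevE6, _, Chev.autType_E6 chevE6 F, Or.inl (two _ _)⟩
  · exact ⟨chevE7, _, Chev.autType_E7 chevE7 F, Or.inl (one _)⟩
  · exact ⟨chevE8, _, Chev.autType_E8 chevE8 F, Or.inl (one _)⟩

/-- The structure of the outer automorphism group. -/
theorem out_structure {D : ChevalleyDatum}
    (hD : D ∈ [Cfsg.Lie.chevG2, Cfsg.Lie.chevB2, Cfsg.Lie.chevD4, Cfsg.Lie.chevF4, Cfsg.Lie.chevE6,
      Cfsg.Lie.chevE7, Cfsg.Lie.chevE8]) (F : Type*) [Field F] [Finite F]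
    (Dbar Fbar : Subgroup (Cfsg.Out ↥(D.group F)))
    (hDbar : Dbar = (Subgroup.closure {φ : MulAut ↥(D.group F) | D.IsDiagonalAut φ}).map (QuotientGroup.mk' (Cfsg.Inn ↥(D.group F))))
    (hFbar : Fbar = (Subgroup.closure {φ : MulAut ↥(D.group F) | D.IsFieldAut φ}).map (QuotientGroup.mk' (Cfsg.Inn ↥(D.group F)))) :
    Dbar.Normal ∧ IsMulCommutative ↥Dbar ∧ IsCyclic ↥Fbar ∧ (Dbar ⊔ Fbar).Normal ∧
      ((Dbar ⊔ Fbar).index = 1 ∨ (Dbar ⊔ Fbar).index = 2 ∨
        ((Dbar ⊔ Fbar).index = 6 ∧ ¬ commutator (Cfsg.Out ↥(D.group F)) ≤ Dbar ⊔ Fbar)) := by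
  obtain ⟨Φ, A, hA, hcase⟩ := range_cases hD F
  rw [Φ.closure_diag] at hDbar
  rw [Φ.closure_field] at hFbar
  subst hDbar hFbar
  have hidx : ((Φ.diagCls F).range ⊔ (Φ.fieldCls F).range).index =
      ((A.filter fun L => L.2 == 0 || L.2 == ringChar F).map Prod.fst).toFinset.card := by
    rw [Φ.sup_eq_ker hA, Subgroup.index_ker, Φ.card_range hA]
  refine ⟨Φ.diag_normal, ⟨⟨?_⟩⟩, ?_, ?_, ?_⟩
  · rintro ⟨_, a, rfl⟩ ⟨_, b, rfl⟩
    exact Subtype.ext (((Commute.all a b).map (Φ.diagCls F)).eq)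
  · haveI := ringAut_cyclic_finite F
    exact isCyclic_of_surjective (Φ.fieldCls F).rangeRestrict (Φ.fieldCls F).rangeRestrict_surjective
  · rw [Φ.sup_eq_ker hA]; infer_instance
  · rw [hidx]
    rcases hcase with h | ⟨h6, a, b, ha, hb, hne⟩
    · have hpos : 0 < ((A.filter fun L => L.2 == 0 || L.2 == ringChar F).map Prod.fst).toFinset.card := by
        rw [← Φ.card_range hA]; exact Nat.card_pos
      omega
    · refine Or.inr (Or.inr ⟨h6, fun hle => ?_⟩)
      rw [Φ.sup_eq_ker hA] at hle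
      obtain ⟨x, hx⟩ := (Φ.mem_range_graphHom hA).2 ha
      obtain ⟨y, hy⟩ := (Φ.mem_range_graphHom hA).2 hb
      have := hle (Subgroup.commutator_mem_commutator (Subgroup.mem_top x) (Subgroup.mem_top y))
      rw [MonoidHom.mem_ker, map_commutatorElement, hx, hy, commutatorElement_eq_one_iff_mul_comm] at this
      exact hne this

end CfsgLib.Chev
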