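/-
The outer automorphism group of B2 over a finite field of characteristic two is cyclic, generated by the
exceptional graph class, whose square is the Frobenius class.
-/
import Cfsg.Agent.Lib.Chev.Aut.OutOrder
import Cfsg.Agent.Lib.Chev.OrderB2

set_option autoImplicit false
set_option linter.dupNamespace false
set_option linter.unusedSectionVars false
set_option maxRecDepth 100000

namespace CfsgLib.Chev

open Cfsg.Lie Matrix

/-- An isomorphism of groups carries inner automorphisms to inner automorphisms. -/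
theorem map_inn_congr {G H : Type*} [Group G] [Group H] (e : G ≃* H) :
    (Cfsg.Inn G).map (MulAut.congr e).toMonoidHom = Cfsg.Inn H := by
  ext α
  constructor
  · rintro ⟨-, ⟨g, rfl⟩, rfl⟩
    exact ⟨e g, MulEquiv.ext fun x => by simp [MulAut.congr, map_mul, map_inv]⟩
  · rintro ⟨h, rfl⟩
    exact ⟨_, ⟨e.symm h, rfl⟩, MulEquiv.ext fun x => by simp [MulAut.congr, map_mul, map_inv]⟩

/-- Outer automorphism groups of isomorphic groups. -/
noncomputable def outEquiv {G H : Type*} [Group G] [Group H] (e : G ≃* H) : Cfsg.Out G ≃* Cfsg.Out H :=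
  QuotientGroup.congr (Cfsg.Inn G) (Cfsg.Inn H) (MulAut.congr e) (map_inn_congr e)

theorem ringAut_two_gen (F : Type*) [Field F] [Finite F] [CharP F 2] {f : ℕ} (hf : 1 ≤ f)
    (hF : Nat.card F = 2 ^ f) :
    ∃ φ : RingAut F, (∀ a : F, φ a = a ^ 2) ∧ ∀ τ : RingAut F, ∃ k : ℕ, φ ^ k = τ := by
  haveI : Fact (2 : ℕ).Prime := ⟨Nat.prime_two⟩
  letI : Fintype F := Fintype.ofFinite F
  classical
  have hinj : Function.Injective (frobenius F 2) := frobenius_inj F 2
  let φ : RingAut F := RingEquiv.ofBijective (frobenius F 2) ⟨hinj, Finite.injective_iff_surjective.1 hinj⟩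
  have hφ : ∀ a : F, φ a = a ^ 2 := fun a => rfl
  refine ⟨φ, hφ, ?_⟩
  have hpow : ∀ (k : ℕ) (a : F), (φ ^ k) a = a ^ (2 ^ k) := by
    intro k
    induction k with
    | zero => intro a; simp
    | succ k ih =>
      intro a
      rw [pow_succ, RingAut.mul_apply, ih, hφ, ← pow_mul, pow_succ']
  obtain ⟨-, hcard⟩ := ringAut_cyclic_card 2 hF
  haveI : Finite (RingAut F) := Nat.finite_of_card_ne_zero (by omega)
  have hord : orderOf φ = f := by
    refine le_antisymm (hcard ▸ orderOf_le_card) ?_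
    by_contra hlt
    have hk : 0 < orderOf φ := orderOf_pos φ
    have hall : ∀ a : F, a ^ (2 ^ orderOf φ) = a := fun a => by
      rw [← hpow, pow_orderOf_eq_one]; rfl
    have h2 : 1 < 2 ^ orderOf φ := Nat.one_lt_two_pow hk.ne'
    have hne := FiniteField.X_pow_card_sub_X_ne_zero F h2
    have hroots : (Polynomial.X ^ (2 ^ orderOf φ) - Polynomial.X : Polynomial F).roots.toFinset = Finset.univ := by
      refine Finset.eq_univ_of_forall fun a => ?_
      rw [Multiset.mem_toFinset, Polynomial.mem_roots hne]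
      simp [Polynomial.IsRoot, hall]
    have hle : Fintype.card F ≤ 2 ^ orderOf φ := by
      rw [← Finset.card_univ, ← hroots]
      exact (Multiset.toFinset_card_le _).trans ((Polynomial.card_roots' _).trans
        (le_of_eq (FiniteField.X_pow_card_sub_X_natDegree_eq F h2)))
    rw [← Nat.card_eq_fintype_card, hF, Nat.pow_le_pow_iff_right (by norm_num)] at hle
    omega
  intro τ
  have htop : Subgroup.zpowers φ = ⊤ := Subgroup.eq_top_of_card_eq _ (by rw [Nat.card_zpowers, hord, hcard])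
  exact mem_powers_iff_mem_zpowers.2 (htop ▸ Subgroup.mem_top τ)

theorem out_B2_cyclic {F : Type*} [Field F] [Finite F] [CharP F 2] {f : ℕ} (hf : 1 ≤ f)
    (hF : Nat.card F = 2 ^ f) :
    IsCyclic (Cfsg.Out ↥(Cfsg.Lie.chevB2.group F)) ∧
      Nat.card (Cfsg.Out ↥(Cfsg.Lie.chevB2.group F)) = 2 * f := by
  haveI : Fact (2 : ℕ).Prime := ⟨Nat.prime_two⟩
  set Φ := chevB2
  have hA := Chev.autType_B2 Φ F
  have hodd : Nat.gcd (2 ^ f - 1) 2 = 1 := by
    have h : Odd (2 ^ f - 1) := Nat.Even.sub_odd Nat.one_le_two_pow (Nat.even_pow.2 ⟨even_two, by omega⟩) odd_one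
    exact h.coprime_two_right
  have hg : 1 * Nat.card (Cfsg.Lie.chevB2.diagonalSubgroup F) = (Nat.card F - 1) ^ Cfsg.Lie.chevB2.rank := by
    have := cardHB2 Φ F
    simp [Fin.prod_univ_succ, hF, hodd] at this ⊢
    exact this
  refine ⟨?_, ?_⟩
  swap
  · rw [Φ.card_out_formula hA hg 2 f hF, show ((allowB2.filter fun L => L.2 == 0 || L.2 == 2).map
      Prod.fst).toFinset.card = 2 by decide]
    ring
  have hdiag : ∀ c, Φ.diagCls F c = 1 := fun c => by
    obtain ⟨e, rfl⟩ : c ∈ (Φ.coHom F).range := by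
      rw [Subgroup.index_eq_one.1 (Φ.index_coHom hg)]; exact Subgroup.mem_top c
    exact Φ.cls_torus_coHom e
  let σ : Equiv.Perm (Fin Cfsg.Lie.chevB2.rank) := Equiv.swap ⟨0, by decide⟩ ⟨1, by decide⟩
  have hσA : Chev.Allowed F allowB2 σ :=
    ⟨([1, 0], 2), by simp [allowB2], by decide +kernel, Or.inr (ringChar.eq F 2)⟩
  obtain ⟨-, g, hg', hfix⟩ := hA.good hσA
  obtain ⟨φ, hφ, hgen⟩ := ringAut_two_gen F hf hF
  have hexp : ∀ i : Fin Cfsg.Lie.chevB2.rank, Cfsg.Lie.chevB2.graphExp 2 i (σ i) * Cfsg.Lie.chevB2.graphExp 2 (σ i) (σ (σ i)) = 2 := by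
    decide +kernel
  set γ := Chev.cls F g
  have hsq : γ ^ 2 = Φ.fieldCls F φ := by
    show Chev.cls F g ^ 2 = Chev.cls F (Φ.autFieldHom F φ)
    rw [← map_pow, pow_two]
    congr 1
    refine Φ.aut_ext fun i t => ?_
    have hii : σ (σ i) = i := Equiv.swap_apply_self _ _ _
    have he := hexp i
    rw [hii] at he
    constructor
    · rw [MulAut.mul_apply, (hg' i t).1, (hg' (σ i) _).1, Φ.fieldHom_eg, hφ, hii, ← pow_mul, ringChar.eq F 2, he]
    · rw [MulAut.mul_apply, (hg' i t).2, (hg' (σ i) _).2, Φ.fieldHom_eg, hφ, hii, ← pow_mul, ringChar.eq F 2, he]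
  have hker : ∀ x, Φ.graphHom F x = 1 → x ∈ Subgroup.zpowers γ := by
    intro x hx
    obtain ⟨c, τ, rfl⟩ := Φ.exists_of_ker hA hx
    obtain ⟨k, rfl⟩ := hgen τ
    rw [hdiag, one_mul, map_pow, ← hsq]
    exact Subgroup.pow_mem _ (Subgroup.pow_mem _ (Subgroup.mem_zpowers γ) 2) k
  have hγ : Φ.graphHom F γ = σ := Φ.graphHom_of_perm hfix fun i t => ⟨_, (hg' i t).1⟩
  have hperm : ∀ π : Equiv.Perm (Fin Cfsg.Lie.chevB2.rank), π = 1 ∨ π = σ := by decide +kernel
  refine ⟨⟨γ, fun x => ?_⟩⟩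
  rcases hperm (Φ.graphHom F x) with h | h
  · exact hker x h
  · have := hker (γ⁻¹ * x) (by rw [map_mul, map_inv, hγ, h, inv_mul_cancel])
    have := Subgroup.mul_mem _ (Subgroup.mem_zpowers γ) this
    rwa [mul_inv_cancel_left] at this

end CfsgLib.Chev
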