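/-
The outer automorphism group of type D4: the symmetric group on four (or three) points times the field part.
-/
import Cfsg.Agent.Lib.Chev.Aut.Out
import Cfsg.Agent.Lib.Chev.Aut.FieldCyclic
import Mathlib.GroupTheory.NoncommPiCoprod
import Mathlib.GroupTheory.GroupAction.Quotient
import Mathlib.Algebra.Group.End
import Mathlib.FieldTheory.Finite.Basic

namespace CfsgLib.Chev.D4Out

open Cfsg.Lie Matrix

set_option linter.dupNamespace false
set_option linter.unusedSectionVars false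
set_option maxRecDepth 100000

variable (Φ : Chev Cfsg.Lie.chevD4) {F : Type*} [Field F] [Finite F]

/-- A node. -/
abbrev nd (i : ℕ) (h : i < 4 := by decide) : Fin Cfsg.Lie.chevD4.rank := ⟨i, h⟩

theorem cases4 (i : Fin Cfsg.Lie.chevD4.rank) : i = nd 0 ∨ i = nd 1 ∨ i = nd 2 ∨ i = nd 3 := by
  obtain ⟨i, hi⟩ := i
  change i < 4 at hi
  interval_cases i <;> simp [nd]

theorem cartD4 : ∀ k, k < 4 → ∀ j, j < 4 → Cfsg.Lie.chevD4.cartan k (Cfsg.Lie.chevD4.simple j) =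
    if k = j then 2 else if k = 1 ∨ j = 1 then -1 else 0 := by decide +kernel

theorem coHom_formula (e : Fin Cfsg.Lie.chevD4.rank → Fˣ) :
    Φ.coHom F e (nd 0) = e (nd 0) ^ 2 * (e (nd 1))⁻¹ ∧
    Φ.coHom F e (nd 1) = e (nd 1) ^ 2 * (e (nd 0))⁻¹ * (e (nd 2))⁻¹ * (e (nd 3))⁻¹ ∧
    Φ.coHom F e (nd 2) = e (nd 2) ^ 2 * (e (nd 1))⁻¹ ∧
    Φ.coHom F e (nd 3) = e (nd 3) ^ 2 * (e (nd 1))⁻¹ := by
  have A : ∀ k j : Fin Cfsg.Lie.chevD4.rank, Φ.A k (Φ.p j) =
      if k.val = j.val then 2 else if k.val = 1 ∨ j.val = 1 then -1 else 0 := fun k j => by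
    rw [← Φ.cartN_eq, cartN]
    exact cartD4 k.val k.isLt j.val j.isLt
  have key : ∀ j : Fin Cfsg.Lie.chevD4.rank, Φ.coHom F e j =
      e (nd 0) ^ Φ.A (nd 0) (Φ.p j) * e (nd 1) ^ Φ.A (nd 1) (Φ.p j) * e (nd 2) ^ Φ.A (nd 2) (Φ.p j) *
        e (nd 3) ^ Φ.A (nd 3) (Φ.p j) := fun j => by
    show ∏ k : Fin 4, e k ^ Φ.A k (Φ.p j) = _
    exact Fin.prod_univ_four _
  refine ⟨?_, ?_, ?_, ?_⟩ <;> rw [key, A, A, A, A] <;>
    simp [mul_comm, mul_left_comm, _root_.zpow_two, pow_two]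

/-- The image of the co-character map: the three leaves have one quadratic class. -/
theorem mem_range_coHom (c : Fin Cfsg.Lie.chevD4.rank → Fˣ) :
    c ∈ (Φ.coHom F).range ↔ IsSquare (c (nd 0) * c (nd 2)) ∧ IsSquare (c (nd 0) * c (nd 3)) := by
  constructor
  · rintro ⟨e, rfl⟩
    obtain ⟨h0, h1, h2, h3⟩ := coHom_formula Φ e
    rw [h0, h2, h3]
    exact ⟨⟨e (nd 0) * e (nd 2) * (e (nd 1))⁻¹, by simp only [pow_two]; ac_rfl⟩,
      ⟨e (nd 0) * e (nd 3) * (e (nd 1))⁻¹, by simp only [pow_two]; ac_rfl⟩⟩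
  · rintro ⟨⟨r2, hr2⟩, ⟨r3, hr3⟩⟩
    set a := c (nd 0)
    set b := c (nd 1)
    -- `u` solves the central equation
    set u := (a⁻¹) ^ 2 * b⁻¹ with hu
    set s2 := r2 * a⁻¹
    set s3 := r3 * a⁻¹
    set w := ((a⁻¹) ^ 2 * b⁻¹ * (s2⁻¹ * s3⁻¹))
    let v : Fˣ := (a ^ 2 * b * s2 * s3)
    refine ⟨![v, a⁻¹ * v ^ 2, s2 * v, s3 * v], funext fun j => ?_⟩
    obtain ⟨h0, h1, h2, h3⟩ := coHom_formula Φ (![v, a⁻¹ * v ^ 2, s2 * v, s3 * v] : Fin Cfsg.Lie.chevD4.rank → Fˣ)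
    have hc2 : c (nd 2) = r2 * r2 * a⁻¹ := by rw [← hr2]; simp [mul_comm, mul_left_comm, a]
    have hc3 : c (nd 3) = r3 * r3 * a⁻¹ := by rw [← hr3]; simp [mul_comm, mul_left_comm, a]
    rcases cases4 j with rfl | rfl | rfl | rfl
    · rw [h0]; show v ^ 2 * (a⁻¹ * v ^ 2)⁻¹ = a
      rw [mul_inv, inv_inv, mul_comm a, ← mul_assoc, mul_inv_cancel, one_mul]
    · rw [h1]; show (a⁻¹ * v ^ 2) ^ 2 * v⁻¹ * (s2 * v)⁻¹ * (s3 * v)⁻¹ = b
      refine Units.ext ?_
      simp only [v, Units.val_mul, Units.val_pow_eq_pow_val, Units.val_inv_eq_inv_val]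
      field_simp
    · rw [h2, hc2]; show (s2 * v) ^ 2 * (a⁻¹ * v ^ 2)⁻¹ = _
      refine Units.ext ?_
      simp only [s2, Units.val_mul, Units.val_pow_eq_pow_val, Units.val_inv_eq_inv_val]
      field_simp
    · rw [h3, hc3]; show (s3 * v) ^ 2 * (a⁻¹ * v ^ 2)⁻¹ = _
      refine Units.ext ?_
      simp only [s3, Units.val_mul, Units.val_pow_eq_pow_val, Units.val_inv_eq_inv_val]
      field_simp

theorem isSquare_iff_mem (x : Fˣ) : IsSquare x ↔ x ∈ (powMonoidHom 2 : Fˣ →* Fˣ).range :=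
  ⟨fun ⟨r, h⟩ => ⟨r, by rw [h]; exact pow_two r⟩, fun ⟨r, h⟩ => ⟨r, by rw [← h]; exact pow_two r⟩⟩

theorem index_squares (h2 : ringChar F ≠ 2) : (powMonoidHom 2 : Fˣ →* Fˣ).range.index = 2 := by
  letI := Fintype.ofFinite F
  rw [IsCyclic.index_powMonoidHom_range, Nat.card_units]
  have h := FiniteField.odd_card_of_char_ne_two h2
  rw [← Nat.card_eq_fintype_card] at h
  have h1 : 2 ∣ Nat.card F - 1 := by omega
  exact Nat.gcd_eq_right h1

theorem exists_nonsquare (h2 : ringChar F ≠ 2) : ∃ ν : Fˣ, ¬ IsSquare ν := by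
  by_contra h
  push Not at h
  have : (powMonoidHom 2 : Fˣ →* Fˣ).range = ⊤ := eq_top_iff.2 fun x _ => (isSquare_iff_mem x).1 (h x)
  have := index_squares (F := F) h2
  simp_all

theorem isSquare_two (h2 : ringChar F = 2) (x : Fˣ) : IsSquare x := by
  obtain ⟨r, hr⟩ := FiniteField.isSquare_of_char_two h2 (x : F)
  exact ⟨Units.mk0 r (fun h => x.ne_zero (by rw [hr, h, mul_zero])), Units.ext hr⟩

theorem index_coHom_odd (h2 : ringChar F ≠ 2) : (Φ.coHom F).range.index = 4 := by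
  set S := (powMonoidHom 2 : Fˣ →* Fˣ).range
  let ev : Fin Cfsg.Lie.chevD4.rank → (Fin Cfsg.Lie.chevD4.rank → Fˣ) →* Fˣ := fun i => Pi.evalMonoidHom _ i
  let χ : (Fin Cfsg.Lie.chevD4.rank → Fˣ) →* (Fˣ ⧸ S) × (Fˣ ⧸ S) :=
    (((QuotientGroup.mk' S).comp (ev (nd 0) * ev (nd 2)))).prod ((QuotientGroup.mk' S).comp (ev (nd 0) * ev (nd 3)))
  have hk : χ.ker = (Φ.coHom F).range := by
    ext c
    rw [MonoidHom.mem_ker, mem_range_coHom, isSquare_iff_mem, isSquare_iff_mem, ← QuotientGroup.eq_one_iff,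
      ← QuotientGroup.eq_one_iff, Prod.ext_iff]
    rfl
  have hs : Function.Surjective χ := by
    rintro ⟨x, y⟩
    obtain ⟨x, rfl⟩ := QuotientGroup.mk_surjective x
    obtain ⟨y, rfl⟩ := QuotientGroup.mk_surjective y
    refine ⟨![1, 1, x, y], ?_⟩
    show (QuotientGroup.mk ((1 : Fˣ) * x), QuotientGroup.mk ((1 : Fˣ) * y)) = _
    rw [one_mul, one_mul]
  rw [← hk, Subgroup.index_ker, MonoidHom.range_eq_top.2 hs, Subgroup.card_top, Nat.card_prod]
  show S.index * S.index = 4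
  rw [index_squares h2]

theorem mem_range_coHom_two (h2 : ringChar F = 2) (c : Fin Cfsg.Lie.chevD4.rank → Fˣ) : c ∈ (Φ.coHom F).range :=
  (mem_range_coHom Φ c).2 ⟨isSquare_two h2 _, isSquare_two h2 _⟩

theorem diagCls_eq_iff {c d : Fin Cfsg.Lie.chevD4.rank → Fˣ} :
    Φ.diagCls F c = Φ.diagCls F d ↔ c * d⁻¹ ∈ (Φ.coHom F).range := by
  constructor
  · intro h
    have h1 : Φ.diagCls F (c * d⁻¹) * Φ.fieldCls F 1 = 1 := by
      rw [map_one, mul_one, map_mul, map_inv, h, mul_inv_cancel]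
    exact (Φ.eq_of_cls h1).1
  · rintro ⟨e, he⟩
    rw [← mul_inv_eq_one, ← map_inv, ← map_mul, ← he]
    exact Φ.cls_torus_coHom e

theorem sq_twist (τ : RingAut F) (x : Fˣ) : IsSquare (Units.map (τ : F →* F) x * x) := by
  by_cases h2 : ringChar F = 2
  · exact isSquare_two h2 _
  rw [isSquare_iff_mem, Subgroup.mul_mem_iff_of_index_two (index_squares h2)]
  constructor
  · rintro ⟨r, hr⟩
    refine ⟨Units.map (τ⁻¹ : RingAut F).toRingHom.toMonoidHom r, Units.ext (τ.injective ?_)⟩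
    have hr' : (r : F) ^ 2 = τ (x : F) := by
      have := congrArg Units.val hr
      simpa using this
    show τ ((τ.symm (r : F)) ^ 2) = τ (x : F)
    rw [map_pow, RingEquiv.apply_symm_apply, hr']
  · rintro ⟨r, hr⟩
    exact ⟨Units.map (τ : F →* F) r, by rw [← hr]; exact (map_pow (Units.map (τ : F →* F)) r 2).symm⟩

/-- Field classes commute with diagonal classes. -/
theorem field_diag (τ : RingAut F) (c : Fin Cfsg.Lie.chevD4.rank → Fˣ) :
    Commute (Φ.fieldCls F τ) (Φ.diagCls F c) := by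
  set c' : Fin Cfsg.Lie.chevD4.rank → Fˣ := fun i => Units.map (τ : F →* F) (c i) with hc'
  have e : Φ.autFieldHom F τ * Φ.torusAut F c = Φ.torusAut F c' * Φ.autFieldHom F τ := by
    refine Φ.aut_ext fun i t => ⟨?_, ?_⟩
    · rw [MulAut.mul_apply, MulAut.mul_apply, (Φ.torusAut_p _ _ _).1, Φ.fieldHom_eg, Φ.fieldHom_eg,
        (Φ.torusAut_p _ _ _).1, map_mul]
      rfl
    · rw [MulAut.mul_apply, MulAut.mul_apply, (Φ.torusAut_p _ _ _).2, Φ.fieldHom_eg, Φ.fieldHom_eg,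
        (Φ.torusAut_p _ _ _).2, map_mul]
      simp [c', Units.val_inv_eq_inv_val]
  have h1 : Φ.diagCls F c' = Φ.diagCls F c := by
    rw [diagCls_eq_iff, mem_range_coHom]
    have hq : ∀ a b : Fˣ, IsSquare (Units.map (τ : F →* F) a * a⁻¹ * (Units.map (τ : F →* F) b * b⁻¹)) := by
      intro a b
      have ha : IsSquare (Units.map (τ : F →* F) a * a⁻¹) := by
        obtain ⟨r, hr⟩ := sq_twist τ a
        exact ⟨r * a⁻¹, by rw [mul_mul_mul_comm, ← hr]; group⟩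
      have hb : IsSquare (Units.map (τ : F →* F) b * b⁻¹) := by
        obtain ⟨r, hr⟩ := sq_twist τ b
        exact ⟨r * b⁻¹, by rw [mul_mul_mul_comm, ← hr]; group⟩
      exact ha.mul hb
    exact ⟨hq _ _, hq _ _⟩
  show Chev.cls F (Φ.autFieldHom F τ) * Chev.cls F (Φ.torusAut F c) = Chev.cls F (Φ.torusAut F c) * Chev.cls F (Φ.autFieldHom F τ)
  rw [← map_mul, e, map_mul]
  exact congrArg (· * _) h1

/-- The allowed symmetries. -/
noncomputable abbrev Sy (F : Type*) [Field F] [Finite F] : Subgroup (Equiv.Perm (Fin Cfsg.Lie.chevD4.rank)) :=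
  (Φ.graphHom F).range

theorem allowed_list (σ : ↥(Sy Φ F)) : ∃ L ∈ allowD4, permList σ.1 = L.1 := by
  obtain ⟨L, hL, h, -⟩ := (Φ.mem_range_graphHom (Chev.autType_D4 Φ F)).1 σ.2
  exact ⟨L, hL, h⟩

theorem fix_one (σ : ↥(Sy Φ F)) : σ.1 (nd 1) = nd 1 := by
  obtain ⟨L, hL, h⟩ := allowed_list Φ σ
  refine Fin.ext ?_
  rw [← permList_getD σ.1 (nd 1), h]
  exact (show ∀ L ∈ allowD4, L.1.getD 1 0 = 1 by decide) L hL

theorem card_Sy : Nat.card ↥(Sy Φ F) = 6 := by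
  rw [Φ.card_range (Chev.autType_D4 Φ F)]
  simp [allowD4, List.filter_cons]

theorem exists_graph (σ : ↥(Sy Φ F)) : ∃ g : MulAut ↥(Cfsg.Lie.chevD4.group F), Chev.Fix g ∧
    ∀ i t, g (Φ.eg (Φ.p i) t) = Φ.eg (Φ.p (σ.1 i)) t ∧ g (Φ.eg (Φ.p i).rev t) = Φ.eg (Φ.p (σ.1 i)).rev t := by
  obtain ⟨-, g, hg, hf⟩ := (Chev.autType_D4 Φ F).good ((Φ.mem_range_graphHom (Chev.autType_D4 Φ F)).1 σ.2)
  obtain ⟨L, hL, h⟩ := allowed_list Φ σ
  have hc : cartOK Cfsg.Lie.chevD4 L.1 = true :=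
    (show ∀ L ∈ allowD4, cartOK Cfsg.Lie.chevD4 L.1 = true by decide +kernel) L hL
  refine ⟨g, hf, fun i t => ?_⟩
  have := hg i t
  rw [(cartOK_spec h hc).1, pow_one] at this
  exact this

/-- The standard graph automorphisms. -/
noncomputable def gam (F : Type*) [Field F] [Finite F] : ↥(Sy Φ F) →* MulAut ↥(Cfsg.Lie.chevD4.group F) :=
  MonoidHom.mk' (fun σ => Classical.choose (exists_graph Φ σ)) fun a b => by
    have key := fun σ : ↥(Sy Φ F) => (Classical.choose_spec (exists_graph Φ σ)).2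
    refine Φ.aut_ext fun i t => ⟨?_, ?_⟩
    · rw [MulAut.mul_apply, (key (a * b) i t).1, (key b i t).1, (key a _ t).1]; rfl
    · rw [MulAut.mul_apply, (key (a * b) i t).2, (key b i t).2, (key a _ t).2]; rfl

theorem gam_spec (σ : ↥(Sy Φ F)) : Chev.Fix (gam Φ F σ) ∧ ∀ i t,
    gam Φ F σ (Φ.eg (Φ.p i) t) = Φ.eg (Φ.p (σ.1 i)) t ∧
      gam Φ F σ (Φ.eg (Φ.p i).rev t) = Φ.eg (Φ.p (σ.1 i)).rev t :=
  Classical.choose_spec (exists_graph Φ σ)

/-- Graph classes. -/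
noncomputable def gcls (F : Type*) [Field F] [Finite F] : ↥(Sy Φ F) →* Cfsg.Out ↥(Cfsg.Lie.chevD4.group F) :=
  (Chev.cls F).comp (gam Φ F)

theorem graphHom_gcls (σ : ↥(Sy Φ F)) : Φ.graphHom F (gcls Φ F σ) = σ.1 :=
  Φ.graphHom_of_perm (gam_spec Φ σ).1 fun i t => ⟨_, ((gam_spec Φ σ).2 i t).1⟩

theorem gcls_injective : Function.Injective (gcls Φ F) := fun a b h =>
  Subtype.ext (by rw [← graphHom_gcls Φ a, h, graphHom_gcls])

theorem field_gcls (τ : RingAut F) (σ : ↥(Sy Φ F)) : Commute (Φ.fieldCls F τ) (gcls Φ F σ) := by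
  have e : Φ.autFieldHom F τ * gam Φ F σ = gam Φ F σ * Φ.autFieldHom F τ := by
    refine Φ.aut_ext fun i t => ⟨?_, ?_⟩
    · rw [MulAut.mul_apply, MulAut.mul_apply, ((gam_spec Φ σ).2 _ _).1, Φ.fieldHom_eg, Φ.fieldHom_eg,
        ((gam_spec Φ σ).2 _ _).1]
    · rw [MulAut.mul_apply, MulAut.mul_apply, ((gam_spec Φ σ).2 _ _).2, Φ.fieldHom_eg, Φ.fieldHom_eg,
        ((gam_spec Φ σ).2 _ _).2]
  show Chev.cls F _ * Chev.cls F _ = Chev.cls F _ * Chev.cls F _
  rw [← map_mul, e, map_mul]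

theorem gcls_conj (σ : ↥(Sy Φ F)) (c : Fin Cfsg.Lie.chevD4.rank → Fˣ) :
    gcls Φ F σ * Φ.diagCls F c * (gcls Φ F σ)⁻¹ = Φ.diagCls F (fun j => c (σ.1.symm j)) := by
  rw [mul_inv_eq_iff_eq_mul]
  show Chev.cls F _ * Chev.cls F _ = Chev.cls F _ * Chev.cls F _
  rw [← map_mul, ← map_mul]
  congr 1
  refine Φ.aut_ext fun i t => ⟨?_, ?_⟩
  · rw [MulAut.mul_apply, MulAut.mul_apply, (Φ.torusAut_p _ _ _).1, ((gam_spec Φ σ).2 _ _).1,
      ((gam_spec Φ σ).2 _ _).1, (Φ.torusAut_p _ _ _).1, Equiv.symm_apply_apply]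
  · rw [MulAut.mul_apply, MulAut.mul_apply, (Φ.torusAut_p _ _ _).2, ((gam_spec Φ σ).2 _ _).2,
      ((gam_spec Φ σ).2 _ _).2, (Φ.torusAut_p _ _ _).2, Equiv.symm_apply_apply]

/-- The diagonal-graph classes. -/
noncomputable abbrev DG (F : Type*) [Field F] [Finite F] : Subgroup (Cfsg.Out ↥(Cfsg.Lie.chevD4.group F)) :=
  (Φ.diagCls F).range ⊔ (gcls Φ F).range

theorem field_DG (τ : RingAut F) {x : Cfsg.Out ↥(Cfsg.Lie.chevD4.group F)} (hx : x ∈ DG Φ F) :
    Commute (Φ.fieldCls F τ) x := by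
  have : DG Φ F ≤ Subgroup.centralizer {Φ.fieldCls F τ} := by
    refine sup_le ?_ ?_
    · rintro _ ⟨c, rfl⟩; exact Subgroup.mem_centralizer_singleton_iff.2 (field_diag Φ τ c).eq.symm
    · rintro _ ⟨σ, rfl⟩; exact Subgroup.mem_centralizer_singleton_iff.2 (field_gcls Φ τ σ).eq.symm
  exact (Subgroup.mem_centralizer_singleton_iff.1 (this hx)).symm

/-- The product decomposition. -/
noncomputable def prodHom (F : Type*) [Field F] [Finite F] :
    ↥(DG Φ F) × RingAut F →* Cfsg.Out ↥(Cfsg.Lie.chevD4.group F) :=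
  MonoidHom.noncommCoprod (DG Φ F).subtype (Φ.fieldCls F) fun x τ => (field_DG Φ τ x.2).symm

theorem mem_DG {x : Cfsg.Out ↥(Cfsg.Lie.chevD4.group F)} :
    x ∈ DG Φ F ↔ ∃ c σ, x = Φ.diagCls F c * gcls Φ F σ := by
  haveI : (Φ.diagCls F).range.Normal := Φ.diag_normal
  rw [DG, ← SetLike.mem_coe, Subgroup.normal_mul]
  constructor
  · rintro ⟨_, ⟨c, rfl⟩, _, ⟨σ, rfl⟩, rfl⟩; exact ⟨c, σ, rfl⟩
  · rintro ⟨c, σ, rfl⟩; exact Set.mul_mem_mul ⟨c, rfl⟩ ⟨σ, rfl⟩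

theorem prodHom_bijective : Function.Bijective (prodHom Φ F) := by
  constructor
  · rw [injective_iff_map_eq_one]
    rintro ⟨⟨x, hx⟩, τ⟩ h
    obtain ⟨c, σ, rfl⟩ := (mem_DG Φ).1 hx
    change Φ.diagCls F c * gcls Φ F σ * Φ.fieldCls F τ = 1 at h
    have hσ := congrArg (Φ.graphHom F) h
    rw [map_mul, map_mul, map_one, graphHom_gcls] at hσ
    rw [show Φ.graphHom F (Φ.diagCls F c) = 1 from Φ.graphHom_torus c,
      show Φ.graphHom F (Φ.fieldCls F τ) = 1 from Φ.graphHom_field τ, one_mul, mul_one] at hσ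
    obtain rfl : σ = 1 := Subtype.ext hσ
    rw [map_one, mul_one] at h
    obtain ⟨hc, hτ⟩ := Φ.eq_of_cls h
    have hτ' := hτ (by decide)
    subst hτ'
    rw [map_one, mul_one] at h
    exact Prod.ext (Subtype.ext (by simp [h])) rfl
  · intro q
    let σ : ↥(Sy Φ F) := ⟨Φ.graphHom F q, q, rfl⟩
    obtain ⟨c, τ, hct⟩ := Φ.exists_of_ker (Chev.autType_D4 Φ F) (q := (gcls Φ F σ)⁻¹ * q)
      (by rw [map_mul, map_inv, graphHom_gcls]; exact inv_mul_cancel _)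
    refine ⟨(⟨gcls Φ F σ * Φ.diagCls F c, mul_mem (Subgroup.mem_sup_right ⟨σ, rfl⟩)
      (Subgroup.mem_sup_left ⟨c, rfl⟩)⟩, τ), ?_⟩
    show gcls Φ F σ * Φ.diagCls F c * Φ.fieldCls F τ = q
    rw [mul_assoc, hct, mul_inv_cancel_left]

theorem card_DG (h : (Φ.coHom F).range.index = 4) : Nat.card ↥(DG Φ F) = 24 := by
  haveI : Finite (RingAut F) := Finite.of_injective (fun τ : RingAut F => (τ : F → F)) DFunLike.coe_injective
  have h1 := Nat.card_eq_of_bijective _ (prodHom_bijective Φ (F := F))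
  rw [Nat.card_prod, Φ.card_out (Chev.autType_D4 Φ F) (by decide), h, card_Sy] at h1
  have hpos : 0 < Nat.card (RingAut F) := Nat.card_pos
  nlinarith

/-- In odd characteristic the diagonal-graph classes form the symmetric group of degree four. -/
theorem DG_equiv (h2 : ringChar F ≠ 2) : Nonempty (↥(DG Φ F) ≃* Equiv.Perm (Fin 4)) := by
  set Γ : Subgroup ↥(DG Φ F) := (gcls Φ F).range.subgroupOf (DG Φ F) with hΓ
  have hcard := card_DG Φ (index_coHom_odd Φ h2)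
  have hΓcard : Nat.card ↥Γ = 6 := by
    rw [Nat.card_congr (Subgroup.subgroupOfEquivOfLe le_sup_right).toEquiv,
      ← Nat.card_congr (MonoidHom.ofInjective (gcls_injective Φ)).toEquiv, card_Sy]
  have hidx : Γ.index = 4 := by
    have := Γ.card_mul_index
    rw [hΓcard, hcard] at this
    omega
  have hcore : Γ.normalCore = ⊥ := by
    rw [eq_bot_iff]
    intro x hx
    obtain ⟨σ, hσ⟩ : x.1 ∈ (gcls Φ F).range := Γ.normalCore_le hx
    have hfix : ∀ c, Φ.diagCls F (fun j => c (σ.1.symm j)) = Φ.diagCls F c := by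
      intro c
      let d : ↥(DG Φ F) := ⟨Φ.diagCls F c, Subgroup.mem_sup_left ⟨c, rfl⟩⟩
      have h1 : x * d * x⁻¹ * d⁻¹ ∈ Γ.normalCore := by
        rw [show x * d * x⁻¹ * d⁻¹ = x * (d * x⁻¹ * d⁻¹) by group]
        exact mul_mem hx (Subgroup.normalCore_normal Γ |>.conj_mem _ (inv_mem hx) d)
      obtain ⟨ρ, hρ⟩ : (x * d * x⁻¹ * d⁻¹).1 ∈ (gcls Φ F).range := Γ.normalCore_le h1
      have h2 : gcls Φ F ρ = Φ.diagCls F (fun j => c (σ.1.symm j)) * (Φ.diagCls F c)⁻¹ := by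
        rw [hρ, ← gcls_conj, hσ]
        rfl
      have h3 := congrArg (Φ.graphHom F) h2
      rw [graphHom_gcls, map_mul, map_inv, show ∀ c, Φ.graphHom F (Φ.diagCls F c) = 1 from Φ.graphHom_torus,
        show Φ.graphHom F (Φ.diagCls F c) = 1 from Φ.graphHom_torus c] at h3
      have : ρ = 1 := Subtype.ext (by simpa using h3)
      rw [this, map_one] at h2
      exact mul_inv_eq_one.1 h2.symm
    obtain ⟨ν, hν⟩ := exists_nonsquare (F := F) h2
    have hleaf : ∀ l, l ≠ nd 1 → σ.1 l = l := by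
      intro l hl
      by_contra hne
      obtain ⟨m, hm1, hml, hmσ⟩ : ∃ m : Fin Cfsg.Lie.chevD4.rank, m ≠ nd 1 ∧ m ≠ l ∧ m ≠ σ.1 l :=
        (show ∀ a b : Fin 4, a ≠ 1 → b ≠ 1 → ∃ m : Fin 4, m ≠ 1 ∧ m ≠ a ∧ m ≠ b by decide)
          l (σ.1 l) hl (fun e => hl (σ.1.injective (e.trans (fix_one Φ σ).symm)))
      let c : Fin Cfsg.Lie.chevD4.rank → Fˣ := fun j => if j = l then ν else 1
      have hR := (mem_range_coHom Φ _).1 ((diagCls_eq_iff Φ).1 (hfix c))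
      set d := (fun j => c (σ.1.symm j)) * c⁻¹ with hd
      have hall : ∀ a b, a ≠ nd 1 → b ≠ nd 1 → IsSquare (d a * d b) := by
        have h0 : ∀ a, a ≠ nd 1 → IsSquare (d (nd 0) * d a) := fun a ha => by
          rcases cases4 a with rfl | rfl | rfl | rfl
          · exact ⟨_, rfl⟩
          · exact absurd rfl ha
          · exact hR.1
          · exact hR.2
        intro a b ha hb
        have := ((h0 a ha).mul (h0 b hb)).mul (IsSquare.sq (d (nd 0))⁻¹)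
        have e : d a * d b = d (nd 0) * d a * (d (nd 0) * d b) * (d (nd 0))⁻¹ ^ 2 := by
          refine Units.ext ?_
          simp only [Units.val_mul, Units.val_pow_eq_pow_val, Units.val_inv_eq_inv_val]
          field_simp
        rw [e]; exact this
      have h1 : d l = ν⁻¹ := by
        have : σ.1.symm l ≠ l := fun e => hne (by conv_lhs => rw [← e, Equiv.apply_symm_apply])
        show c (σ.1.symm l) * (c l)⁻¹ = ν⁻¹
        simp [c, this]
      have h3 : d m = 1 := by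
        have : σ.1.symm m ≠ l := fun e => hmσ (by rw [← e, Equiv.apply_symm_apply])
        show c (σ.1.symm m) * (c m)⁻¹ = 1
        simp [c, this, show (m : Fin Cfsg.Lie.chevD4.rank) ≠ l from hml]
      have := hall l m hl hm1
      rw [h1, h3, mul_one] at this
      obtain ⟨r, hr⟩ := this
      exact hν ⟨r⁻¹, by rw [← mul_inv, ← hr, inv_inv]⟩
    have : σ = 1 := Subtype.ext (Equiv.ext fun i => by
      by_cases hi : i = nd 1
      · subst hi; exact fix_one Φ σ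
      · exact hleaf i hi)
    exact Subgroup.mem_bot.2 (Subtype.ext (by rw [← hσ, this, map_one]; rfl))
  let e4 : (↥(DG Φ F) ⧸ Γ) ≃ Fin 4 := Classical.choice (by
    haveI : Finite (↥(DG Φ F) ⧸ Γ) := inferInstance
    exact ⟨(Finite.equivFin _).trans (finCongr (by rw [← Subgroup.index_eq_card, hidx]))⟩)
  let act : ↥(DG Φ F) →* Equiv.Perm (Fin 4) :=
    (Equiv.permCongrHom e4).toMonoidHom.comp (MulAction.toPermHom ↥(DG Φ F) (↥(DG Φ F) ⧸ Γ))
  have hinj : Function.Injective act := by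
    refine (Equiv.permCongrHom e4).injective.comp ?_
    rw [← MonoidHom.ker_eq_bot_iff, ← Subgroup.normalCore_eq_ker, hcore]
  refine ⟨MulEquiv.ofBijective act ((Nat.bijective_iff_injective_and_card _).2 ⟨hinj, ?_⟩)⟩
  rw [hcard, Nat.card_eq_fintype_card, Fintype.card_perm, Fintype.card_fin]
  rfl

/-- The graph classes are the symmetric group of degree three. -/
theorem Sy_equiv : Nonempty (↥(Sy Φ F) ≃* Equiv.Perm (Fin 3)) := by
  have hmap : ∀ (σ : ↥(Sy Φ F)) (i : Fin Cfsg.Lie.chevD4.rank), (σ.1 i ≠ nd 1) ↔ (i ≠ nd 1) := fun σ i =>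
    not_congr ⟨fun h => σ.1.injective (h.trans (fix_one Φ σ).symm), fun h => h ▸ fix_one Φ σ⟩
  let r : ↥(Sy Φ F) →* Equiv.Perm {i : Fin Cfsg.Lie.chevD4.rank // i ≠ nd 1} :=
    MonoidHom.mk' (fun σ => Equiv.Perm.subtypePerm σ.1 (hmap σ)) fun a b => Equiv.ext fun i => Subtype.ext rfl
  let e3 : {i : Fin Cfsg.Lie.chevD4.rank // i ≠ nd 1} ≃ Fin 3 :=
    (finSuccAboveEquiv (1 : Fin 4)).symm
  have hinj : Function.Injective r := fun a b h => Subtype.ext (Equiv.ext fun i => by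
    by_cases hi : i = nd 1
    · subst hi; rw [fix_one, fix_one]
    · exact congrArg Subtype.val (DFunLike.congr_fun h ⟨i, hi⟩))
  refine ⟨MulEquiv.ofBijective ((Equiv.permCongrHom e3).toMonoidHom.comp r)
    ((Nat.bijective_iff_injective_and_card _).2 ⟨(Equiv.permCongrHom e3).injective.comp hinj, ?_⟩)⟩
  rw [card_Sy, Nat.card_eq_fintype_card, Fintype.card_perm, Fintype.card_fin]
  rfl

theorem DG_equiv_two (h2 : ringChar F = 2) : Nonempty (↥(DG Φ F) ≃* Equiv.Perm (Fin 3)) := by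
  obtain ⟨e⟩ := Sy_equiv Φ (F := F)
  have : DG Φ F = (gcls Φ F).range := by
    refine sup_eq_right.2 ?_
    rintro _ ⟨c, rfl⟩
    have : Φ.diagCls F c = 1 := by
      rw [← map_one (Φ.diagCls F), diagCls_eq_iff]
      exact mem_range_coHom_two Φ h2 _
    rw [this]; exact one_mem _
  exact ⟨(MulEquiv.subgroupCongr this).trans ((MonoidHom.ofInjective (gcls_injective Φ)).symm.trans e)⟩

theorem field_equiv (p f : ℕ) [Fact p.Prime] [CharP F p] (hF : Nat.card F = p ^ f) :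
    Nonempty (RingAut F ≃* Multiplicative (ZMod f)) := by
  obtain ⟨hc, hcard⟩ := ringAut_cyclic_card p hF
  exact ⟨mulEquivOfCyclicCardEq (by rw [hcard, Nat.card_congr Multiplicative.toAdd, Nat.card_zmod])⟩

include Φ in
theorem out_even (f : ℕ) [CharP F 2] (hF : Nat.card F = 2 ^ f) :
    Nonempty (Cfsg.Out ↥(Cfsg.Lie.chevD4.group F) ≃* Equiv.Perm (Fin 3) × Multiplicative (ZMod f)) := by
  haveI : Fact (Nat.Prime 2) := ⟨Nat.prime_two⟩
  obtain ⟨e⟩ := DG_equiv_two Φ (ringChar.eq F 2) (F := F)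
  obtain ⟨e'⟩ := field_equiv (F := F) 2 f hF
  exact ⟨(MulEquiv.ofBijective _ (prodHom_bijective Φ)).symm.trans (e.prodCongr e')⟩

include Φ in
theorem out_odd (p f : ℕ) [Fact p.Prime] [CharP F p] (hp : p ≠ 2) (hF : Nat.card F = p ^ f) :
    Nonempty (Cfsg.Out ↥(Cfsg.Lie.chevD4.group F) ≃* Equiv.Perm (Fin 4) × Multiplicative (ZMod f)) := by
  obtain ⟨e⟩ := DG_equiv Φ (F := F) (by rw [ringChar.eq F p]; exact hp)
  obtain ⟨e'⟩ := field_equiv (F := F) p f hF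
  exact ⟨(MulEquiv.ofBijective _ (prodHom_bijective Φ)).symm.trans (e.prodCongr e')⟩

end CfsgLib.Chev.D4Out
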